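import Cfsg.Agent.Omega.OM.SWQ.TiAll

/-!
# TI at the levels for `Mul`

* `exists_dtl_mul` : the frame of `Mul` at stage `n ≥ 0` is the frame of `DtL` up to a permutation of the indices;
* `Mul.tiAll_lev`, `Mul.tiL_lev`, `Mul.ti_lev` (`k = 2`) : `q ≠ 4`.
-/

set_option autoImplicit false
set_option linter.unusedSectionVars false

namespace Cfsg.Agent.Omega.OM.SWQ

open Subgroup Cfsg Cfsg.Agent.ZN.ChoiceBase Cfsg.Agent.ZN.ChoiceSit
open Cfsg.Agent.ZN (jj zj bau zc zl o2)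
open Cfsg.Agent.Omega.FrameFF (cv)
open Cfsg.Agent.Omega.NO3S.OneLine (NatC)
open Cfsg.Agent.Omega.NO3S.Level (lev)
open Cfsg.Agent.Omega.NO3S.EThree.Frame (Bg TI)
open Cfsg.Agent.Omega.OM.Lev.Nat
open Cfsg.Agent.Omega.OM.SwapL (Ln BL ZL lb)
open Cfsg.Agent.Omega.Node.MultiOf (FBl Mul StgP)

universe u

variable {G : Type u} [Group G] [Finite G]

/-- `TI` from the centralisers. -/
theorem ti_of_cent {S : Sylow 2 G} {P B ZJ : Subgroup G} {ι : Type} {L W Z C : ι → Subgroup G} {q : ℕ}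
    (h : Bg S P B ZJ L W Z C q) {i : ι}
    (hc : ∀ z ∈ Z i, z ≠ 1 → centralizer ({z} : Set G) ≤ normalizer (Z i : Set G)) : TI (Z i) := by
  intro g hg
  obtain ⟨x, hx, hx1⟩ : ∃ x ∈ cj g (Z i) ⊓ Z i, x ≠ 1 := by
    by_contra hcon
    push Not at hcon
    exact hg ((eq_bot_iff_forall _).2 hcon)
  obtain ⟨⟨y, hy, e⟩, hxZ⟩ := hx
  have e' : g * y * g⁻¹ = x := e
  have hy1 : y ≠ 1 := by
    rintro rfl
    exact hx1 (by rw [← e']; group)
  obtain ⟨t, htL, htB, ht⟩ := h.tor i hy hy1 hxZ hx1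
  have htZ : t ∈ normalizer (Z i : Set G) := by
    rw [mem_normalizer_iff_cj]
    refine Subgroup.eq_of_le_of_card_ge ?_ (by rw [card_cj])
    rintro _ ⟨v, hv, rfl⟩
    exact h.L_inf_norm i htL htB hv
  have h1 : g * t⁻¹ ∈ normalizer (Z i : Set G) := by
    refine hc x hxZ hx1 (mem_centralizer_singleton_iff.2 ?_)
    have h2 : g * t⁻¹ * x * (g * t⁻¹)⁻¹ = x := by
      rw [← ht]
      have : g * t⁻¹ * (t * y * t⁻¹) * (g * t⁻¹)⁻¹ = g * y * g⁻¹ := by group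
      rw [this, e', ht]
    exact mul_inv_eq_iff_eq_mul.1 h2
  have h3 := mul_mem h1 htZ
  rw [inv_mul_cancel_right] at h3
  exact mem_normalizer_iff_cj.1 h3

/-- **The frame of `Mul` at stage `n ≥ 0` is the frame of `DtL` up to a permutation.** -/
theorem exists_dtl_mul {S : Sylow 2 G} {P K B ZJ : Subgroup G} {k : ℕ} {L W Z C : Fin k → Subgroup G} {q : ℕ}
    (h : Mul S P K B ZJ L W Z C q) (hk : 2 ≤ k) (hJ : jj (S : Subgroup G) ≤ o2 P) :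
    ∃ (n : ℕ) (F : Type) (_ : Field F) (_ : Finite F) (_ : CharP F 2)
      (M : NatC F (S : Subgroup G) P (zl (S : Subgroup G) P) (cv (S : Subgroup G) P) k)
      (L' Z' A' : Fin k → Subgroup G) (σ : Equiv.Perm (Fin k)), Nat.card F = q ∧
        K = lev (S : Subgroup G) (n + 1) ∧ ZJ = ZL (S : Subgroup G) n ∧ B = BL (S : Subgroup G) n ∧
          DtL S P n M L' Z' A' ∧ ∀ i, Z i = Z' (σ i) := by
  obtain ⟨F, _, _, _, hF, ⟨N⟩⟩ := h.nat
  obtain ⟨n, hn, hn1, hK, hB, hZJ⟩ : ∃ n, lev (S : Subgroup G) n ≤ o2 P ∧ ¬ lev (S : Subgroup G) (n + 1) ≤ o2 P ∧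
      K = lev (S : Subgroup G) (n + 1) ∧ B = BL (S : Subgroup G) n ∧ ZJ = ZL (S : Subgroup G) n := by
    cases h.stg with
    | neg h1 => exact absurd hJ h1
    | lev n _ hn hn1 => exact ⟨n, hn, hn1, rfl, rfl, rfl⟩
  obtain ⟨M, L', Z', A', -, D⟩ := exists_dtl h.hyp.toHypN hn hn1 hk N
  have key : ∀ i, ∃ j, Z i = Z' j := by
    intro i
    have h1 := h.fbl i
    rw [hB] at h1
    obtain ⟨Z'', h2, j, h3, -⟩ := TC.UniLev.uni_all S rfl rfl D.ln.fr h1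
    refine ⟨j, ?_⟩
    rw [← h3]
    have h4 := h.bg.fr.blk i
    rw [hB] at h4
    ext z
    rw [h4.toMd.mem_Z_iff, h2.toMd.mem_Z_iff]
    exact Iff.rfl
  choose σ hσ using key
  have hinj : Function.Injective σ := fun i j e => h.bg.Z_inj (by rw [hσ i, hσ j, e])
  exact ⟨n, F, inferInstance, inferInstance, inferInstance, M, L', Z', A',
    Equiv.ofBijective σ (Finite.injective_iff_bijective.1 hinj), hF, hK, hZJ, hB, D, hσ⟩

section mul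

variable {S : Sylow 2 G} {P K B ZJ : Subgroup G} {k : ℕ} {L W Z C : Fin k → Subgroup G} {q : ℕ}

/-- **(T1)** for `Mul`, stage `n ≥ 0`, `q ≠ 4`. -/
theorem _root_.Cfsg.Agent.Omega.Node.MultiOf.Mul.tiAll_lev (h : Mul S P K B ZJ L W Z C q) (hk : 2 ≤ k)
    (hJ : jj (S : Subgroup G) ≤ o2 P) (hq : q ≠ 4) {Y : Subgroup G} (hY : Y ≤ ZJ)
    (hm : ∀ i, ∃ z ∈ Z i, z ≠ 1 ∧ z ∈ Y) : centralizer (Y : Set G) ≤ normalizer (ZJ : Set G) := by
  obtain ⟨n, F, _, _, _, M, L', Z', A', σ, hF, -, rfl, rfl, D, hσ⟩ := exists_dtl_mul h hk hJ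
  refine D.tiAll' (by rw [hF]; exact hq) hY fun i => ?_
  have h1 := hm (σ.symm i)
  rwa [hσ, Equiv.apply_symm_apply] at h1

/-- **(T2)** for `Mul`, stage `n ≥ 0`, `q ≠ 4`. -/
theorem _root_.Cfsg.Agent.Omega.Node.MultiOf.Mul.tiL_lev (h : Mul S P K B ZJ L W Z C q) (hk : 2 ≤ k)
    (hJ : jj (S : Subgroup G) ≤ o2 P) (hq : q ≠ 4) {i j : Fin k} (hij : i ≠ j) {z : G} (hz : z ∈ Z i)
    (hz1 : z ≠ 1) :
    centralizer ({z} : Set G) ⊓ (⨅ l : {l : Fin k // l ≠ i ∧ l ≠ j}, centralizer (Z l : Set G)) ≤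
      normalizer (Z i : Set G) := by
  obtain ⟨n, F, _, _, _, M, L', Z', A', σ, hF, -, rfl, rfl, D, hσ⟩ := exists_dtl_mul h hk hJ
  rw [hσ i] at hz ⊢
  have h1 := D.tiL (by rw [hF]; exact hq) (fun e => hij (σ.injective e)) hz hz1 (j := σ j)
  refine le_trans (inf_le_inf_left _ ?_) h1
  refine le_iInf fun l => ?_
  obtain ⟨m, hm⟩ := σ.surjective l.1
  have h2 : m ≠ i ∧ m ≠ j := ⟨fun e => l.2.1 (by rw [← hm, e]), fun e => l.2.2 (by rw [← hm, e])⟩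
  refine (iInf_le (fun l : {l : Fin k // l ≠ i ∧ l ≠ j} => centralizer (Z l : Set G)) ⟨m, h2⟩).trans ?_
  show centralizer (Z m : Set G) ≤ _
  rw [hσ m, hm]

/-- **`TI (Z i)`**, `k = 2`, stage `n ≥ 0`, `q ≠ 4`. -/
theorem _root_.Cfsg.Agent.Omega.Node.MultiOf.Mul.ti_lev {L W Z C : Fin 2 → Subgroup G}
    (h : Mul S P K B ZJ L W Z C q) (hJ : jj (S : Subgroup G) ≤ o2 P) (hq : q ≠ 4) (i : Fin 2) : TI (Z i) := by
  refine ti_of_cent h.bg fun z hz hz1 => ?_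
  obtain ⟨j, hj⟩ := h.bg.two i
  refine le_trans (le_inf le_rfl (le_iInf fun l => ?_)) (h.tiL_lev le_rfl hJ hq (j := j) (Ne.symm hj) hz hz1)
  have h1 : ∀ a b c : Fin 2, a ≠ b → a ≠ c → b ≠ c → False := by decide
  exact (h1 _ _ _ l.2.1 l.2.2 (Ne.symm hj)).elim

end mul

end Cfsg.Agent.Omega.OM.SWQ
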