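import Cfsg.Agent.Omega.OM.Lev.Main
import Cfsg.Agent.Omega.OM.SwapL.Plug
import Cfsg.Agent.Omega.OM.FourF.Mod

/-!
# THEOREM SWQ (#21705): the ground frame at stage `n` with coordinates, any `q`

* `DtL S P n M L Z A` : `SwapL.Ln`, `Bg` and the coordinates of `NatC`; `exists_dtl`;
* `DtL.cd`, `DtL.nm`, `DtL.exists_md` : the coordinates are `YThm.Cd`, `FourF.MD`;
* `DtL.cover`, `DtL.conj_ZJ` : an element of `⟨W i : i ∈ r⟩` is conjugate under `⟨L i : i ∈ r⟩` to an element of `Z_J`.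
-/

set_option autoImplicit false
set_option linter.unusedSectionVars false

namespace Cfsg.Agent.Omega.OM.SWQ

open Subgroup Cfsg Cfsg.Agent.ZN.ChoiceBase Cfsg.Agent.ZN.ChoiceSit
open Cfsg.Agent.ZN (jj zj bau zc zl o2)
open Cfsg.Agent.Lib.SL2Mat Cfsg.Agent.Omega.NatPair
open Cfsg.Agent.Omega.FFThm (NatK NatKM ActsSL)
open Cfsg.Agent.Omega.FrameFF (cv)
open Cfsg.Agent.Omega.NO3S (HypN)
open Cfsg.Agent.Omega.NO3S.OneLine (NatC)
open Cfsg.Agent.Omega.NO3S.Level (lev)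
open Cfsg.Agent.Omega.NO3S.EThree.Frame (Bg)
open Cfsg.Agent.Omega.OM.Lev.Nat
open Cfsg.Agent.Omega.OM.SwapL (Ln BL ZL lb)
open Cfsg.Agent.Omega.OM.YThm

universe u

variable {G : Type u} [Group G] [Finite G]

/-- The ground frame at stage `n`, with coordinates. -/
structure DtL {F : Type} [Field F] (S : Sylow 2 G) (P : Subgroup G) (n : ℕ) {k : ℕ}
    (M : NatC F (S : Subgroup G) P (zl (S : Subgroup G) P) (cv (S : Subgroup G) P) k)
    (L Z A : Fin k → Subgroup G) : Prop where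
  ln : Ln S P n L (Wn M) Z (Cn M) A (Nat.card F)
  bg : Bg S P (BL (S : Subgroup G) n) (ZL (S : Subgroup G) n) L (Wn M) Z (Cn M) (Nat.card F)
  LX : ∀ i, L i ≤ Xn M i
  acts : ∀ i A', ∃ l ∈ L i, ∃ A'', M.Acts l A'' ∧ A'' i = A'
  memZ : ∀ i v, v ∈ Z i ↔ v ∈ Wn M i ∧ M.nat.e v i 1 = 0
  memJ : ∀ v, v ∈ ZL (S : Subgroup G) n ↔ v ∈ zl (S : Subgroup G) P ∧ ∀ i, M.nat.e v i 1 = 0

variable {S : Sylow 2 G} {P : Subgroup G} {n : ℕ} {F : Type} [Field F] {k : ℕ}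

theorem exists_dtl [Finite F] [CharP F 2] (h : HypN S P) (hn : lev (S : Subgroup G) n ≤ o2 P)
    (hn1 : ¬ lev (S : Subgroup G) (n + 1) ≤ o2 P) (hk : 2 ≤ k)
    (N : NatKM F (S : Subgroup G) P (zl (S : Subgroup G) P) (cv (S : Subgroup G) P) k) :
    ∃ (M : NatC F (S : Subgroup G) P (zl (S : Subgroup G) P) (cv (S : Subgroup G) P) k)
      (L Z A : Fin k → Subgroup G), M.nat = N.toNatK ∧ DtL S P n M L Z A := by
  obtain ⟨M, L, Z, A, e, hFr, hB, -, h1, h2, h3, h4⟩ := Lev.Main.bg_lev h hn hn1 hk N rfl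
  exact ⟨M, L, Z, A, e, ⟨h, hn, hFr, hB.two⟩, hB, h1, h2, h3, h4⟩

variable {M : NatC F (S : Subgroup G) P (zl (S : Subgroup G) P) (cv (S : Subgroup G) P) k}
  {L Z A : Fin k → Subgroup G} (D : DtL S P n M L Z A)

include D

namespace DtL

theorem SP : (S : Subgroup G) ≤ P := D.ln.hyp.toHyp.syl.1

theorem syl : Syl (S : Subgroup G) P := D.ln.hyp.toHyp.syl

theorem LP (i : Fin k) : L i ≤ P := fun _ hl => (D.LX i hl).1

theorem k_pos : 0 < k := M.pos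

theorem inj {v w : G} (hv : v ∈ zl (S : Subgroup G) P) (hw : w ∈ zl (S : Subgroup G) P)
    (he : M.nat.e v = M.nat.e w) : v = w := by
  have h1 : v * w⁻¹ = 1 := by
    refine D.ln.fr.C0 _ (mul_mem hv (inv_mem hw)) fun i => ⟨mul_mem hv (inv_mem hw), ?_⟩
    rw [M.map_div hv hw, he, sub_self]
    rfl
  exact mul_inv_eq_one.1 h1

theorem cB {b z : G} (hb : b ∈ BL (S : Subgroup G) n) (hz : z ∈ ZL (S : Subgroup G) n) : b * z = z * b :=
  ((D.ln.fr.mem_ZJ z).1 hz).2 b hb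

theorem BS : BL (S : Subgroup G) n ≤ (S : Subgroup G) := (lb S n).BS

theorem mem_B {t : G} (ht : t ∈ (S : Subgroup G)) (hc : ∀ z ∈ ZL (S : Subgroup G) n, t * z = z * t) :
    t ∈ BL (S : Subgroup G) n :=
  ⟨ht, mem_centralizer_iff.2 fun z hz => (hc z hz).symm⟩

theorem up_of [Finite F] [CharP F 2] {b : G} (hb : b ∈ BL (S : Subgroup G) n) :
    ∃ c : Fin k → F, M.Acts b fun i => up (c i) :=
  exists_up M D.syl (D.BS hb) fun v hv hv1 => D.cB hb ((D.memJ v).2 ⟨hv, hv1⟩)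

theorem exists_b (c : Fin k → F) : ∃ b ∈ BL (S : Subgroup G) n, M.Acts b fun i => up (c i) := by
  obtain ⟨t, ht, hA, -⟩ := M.nat.unip c
  refine ⟨t, D.mem_B ht fun z hz => ?_, hA⟩
  obtain ⟨hz1, hz2⟩ := (D.memJ z).1 hz
  refine mul_inv_eq_iff_eq_mul.1 (D.inj (M.Vn t (D.SP ht) z hz1) hz1 ?_)
  funext j
  rw [hA z hz1 j]
  apply ext2
  · rw [ap_zero', up_00, up_01, hz2 j]; ring
  · rw [ap_one', up_10, up_11]; ring

omit [Finite G] D in
theorem e_up {b : G} {c : Fin k → F} (hc : M.Acts b fun i => up (c i)) {v : G} (hv : v ∈ zl (S : Subgroup G) P)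
    (i : Fin k) : M.nat.e (b * v * b⁻¹) i 0 = M.nat.e v i 0 + c i * M.nat.e v i 1 ∧
      M.nat.e (b * v * b⁻¹) i 1 = M.nat.e v i 1 := by
  rw [hc v hv i]
  constructor
  · rw [ap_zero', up_00, up_01, one_mul]
  · rw [ap_one', up_10, up_11, zero_mul, one_mul, zero_add]

/-- The coordinates are `Cd`. -/
theorem cd [Finite F] [CharP F 2] :
    Cd F (BL (S : Subgroup G) n) (zl (S : Subgroup G) P) (ZL (S : Subgroup G) n) k M.nat.e where
  VV := fun v hv w hw => D.ln.fr.Vc hv hw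
  mul := M.nat.mul
  surj := M.nat.surj
  inj := fun v hv h0 => D.inj hv (one_mem _) (by rw [h0, M.map_one])
  ZV := D.ln.fr.ZJV
  memZ := fun v hv => ⟨fun h => ((D.memJ v).1 h).2, fun h => (D.memJ v).2 ⟨hv, h⟩⟩
  nB := fun b hb v hv => M.Vn b (D.SP (D.BS hb)) v hv
  act := fun b hb => by
    obtain ⟨c, hc⟩ := D.up_of hb
    exact ⟨c, fun v hv i => e_up hc hv i⟩
  full := fun c => by
    obtain ⟨b, hb, hc⟩ := D.exists_b c
    exact ⟨b, hb, fun v hv i => e_up hc hv i⟩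

/-- `N_G(B)` acts by `Nm`. -/
theorem nm [Finite F] [CharP F 2] {g : G} (hg : g ∈ normalizer (BL (S : Subgroup G) n : Set G)) :
    Nm (BL (S : Subgroup G) n) (zl (S : Subgroup G) P) M.nat.e g := by
  have c := D.cd
  obtain ⟨h1, h2⟩ := D.ln.norm hg
  refine ⟨fun v hv => ?_, fun b hb => (mem_normalizer_iff.1 hg b).1 hb, fun i => ?_⟩
  · rw [← h1]
    exact ⟨v, hv, rfl⟩
  obtain ⟨j, h3, h4⟩ := h2 i
  refine ⟨j, fun z hz hzl hz1 => ?_, fun w hw hwl l hl => ?_⟩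
  · have h5 : z ∈ Z i := (D.memZ i z).2 ⟨⟨hz, hzl⟩, hz1⟩
    have h6 : g * z * g⁻¹ ∈ Z j := by
      rw [← h3]; exact ⟨z, h5, rfl⟩
    obtain ⟨h7, h8⟩ := (D.memZ j _).1 h6
    exact ⟨h7.2, h8⟩
  · have h5 : w ∈ Wn M i := ⟨hw, hwl⟩
    have h6 : g * w * g⁻¹ ∈ Wn M j ⊔ ZL (S : Subgroup G) n := h4 ⟨w, h5, rfl⟩
    have hle : ZL (S : Subgroup G) n ≤ zl (S : Subgroup G) P := c.ZV
    have hcom : ∀ a ∈ ZL (S : Subgroup G) n, ∀ b ∈ Wn M j, a * b = b * a := fun a ha b hb =>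
      c.VV a (hle ha) b hb.1
    obtain ⟨x, hx, z, hz, e⟩ := SQ1.Bau.mem_sup_comm hcom (by rw [sup_comm]; exact h6)
    rw [e, c.mul x (hle hx) z hz.1, Pi.add_apply, Pi.add_apply,
      hz.2 l hl, (c.memZ x (hle hx)).1 hx l]
    simp

theorem S_norm : (S : Subgroup G) ≤ normalizer (BL (S : Subgroup G) n : Set G) :=
  (lb S n).two_le S.isPGroup' D.BS

theorem P_norm : P ≤ normalizer (zl (S : Subgroup G) P : Set G) := by
  intro p hp
  rw [mem_normalizer_iff_cj]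
  refine Subgroup.eq_of_le_of_card_ge ?_ (by rw [card_cj])
  rintro _ ⟨v, hv, rfl⟩
  exact M.Vn p hp v hv

/-- The module data of helper87. -/
theorem exists_md [Finite F] [CharP F 2] : ∃ z₀ f₀ : Fin k → F,
    FourF.MD M.nat (BL (S : Subgroup G) n) (ZL (S : Subgroup G) n) (Wn M) Z z₀ f₀ := by
  obtain ⟨z₀, f₀, h1, h2, h3⟩ := D.cd.exists_cn D.k_pos S.isPGroup' (fun _ hs => D.nm (D.S_norm hs)) M.nat.trans
  exact ⟨z₀, f₀, D.P_norm, D.SP, h1, h2, h3, fun i v => Iff.rfl, D.memZ⟩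

/-! ### Conjugation into `Z_J` -/

theorem Z_W (i : Fin k) : Z i ≤ Wn M i := fun z hz => ((D.memZ i z).1 hz).1

theorem mem_Z_iff {i : Fin k} {v : G} : v ∈ Z i ↔ v ∈ ZL (S : Subgroup G) n ∧ ∀ j, j ≠ i → M.nat.e v j = 0 := by
  rw [D.memZ]
  constructor
  · rintro ⟨⟨h1, h2⟩, h3⟩
    refine ⟨(D.memJ v).2 ⟨h1, fun j => ?_⟩, h2⟩
    by_cases hj : j = i
    · rw [hj]; exact h3
    · rw [h2 j hj]; rfl
  · rintro ⟨h1, h2⟩
    exact ⟨⟨((D.memJ v).1 h1).1, h2⟩, ((D.memJ v).1 h1).2 i⟩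

/-- one step -/
theorem step (i : Fin k) {v : G} (hv : v ∈ zl (S : Subgroup G) P) : ∃ l ∈ L i, M.nat.e (l * v * l⁻¹) i 1 = 0 ∧
    ∀ j, j ≠ i → M.nat.e (l * v * l⁻¹) j 1 = M.nat.e v j 1 ∧ (M.nat.e v j = 0 → M.nat.e (l * v * l⁻¹) j = 0) := by
  by_cases h0 : M.nat.e v i = 0
  · refine ⟨1, one_mem _, ?_, fun j hj => ?_⟩
    · rw [one_mul, inv_one, mul_one, h0]; rfl
    · rw [one_mul, inv_one, mul_one]; exact ⟨rfl, fun h => h⟩
  · have hne : (![1, 0] : Fin 2 → F) ≠ 0 := by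
      intro h1
      have := congrFun h1 0
      simp at this
    obtain ⟨B, hB⟩ := exists_ap h0 hne
    obtain ⟨l, hl, A'', hA, hAi⟩ := D.acts i B
    obtain ⟨hlP, A', hA', hup⟩ := D.LX i hl
    refine ⟨l, hl, ?_, fun j hj => ?_⟩
    · rw [hA v hv i, hAi, hB]; rfl
    · obtain ⟨c, hc⟩ := hup j hj
      rw [hA' v hv j, hc]
      refine ⟨?_, fun h1 => ?_⟩
      · rw [ap_one', up_10, up_11]; ring
      · rw [h1, ap_z]

theorem conj_aux (r : Set (Fin k)) {x : G} (hx : x ∈ zl (S : Subgroup G) P) (hs : ∀ i, i ∉ r → M.nat.e x i = 0) :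
    ∀ s : Finset (Fin k), (∀ i ∈ s, i ∈ r) → ∃ g ∈ ⨆ i ∈ r, L i, g * x * g⁻¹ ∈ zl (S : Subgroup G) P ∧
      (∀ i, i ∉ r → M.nat.e (g * x * g⁻¹) i = 0) ∧ ∀ i ∈ s, M.nat.e (g * x * g⁻¹) i 1 = 0 := by
  classical
  intro s
  induction s using Finset.induction_on with
  | empty =>
    intro _
    refine ⟨1, one_mem _, ?_, fun i hi => ?_, fun i hi => absurd hi (Finset.notMem_empty i)⟩
    · simpa using hx
    · simpa using hs i hi
  | insert i s hi ih =>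
    intro hr
    obtain ⟨g, hg, hgV, hg1, hg2⟩ := ih fun j hj => hr j (Finset.mem_insert_of_mem hj)
    have hir : i ∈ r := hr i (Finset.mem_insert_self i s)
    obtain ⟨l, hl, h1, h2⟩ := D.step i hgV
    have hLr : L i ≤ ⨆ i ∈ r, L i := le_iSup₂_of_le i hir le_rfl
    have e : (l * g) * x * (l * g)⁻¹ = l * (g * x * g⁻¹) * l⁻¹ := by group
    refine ⟨l * g, mul_mem (hLr hl) hg, ?_, fun j hj => ?_, fun j hj => ?_⟩
    · rw [e]; exact M.Vn l (D.LP i hl) _ hgV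
    · rw [e]
      exact (h2 j fun h => hj (h ▸ hir)).2 (hg1 j hj)
    · rw [e]
      by_cases hji : j = i
      · rw [hji]; exact h1
      · rw [(h2 j hji).1]
        rcases Finset.mem_insert.1 hj with h3 | h3
        · exact absurd h3 hji
        · exact hg2 j h3

omit [Finite G] D in
theorem sup_W_le (r : Set (Fin k)) {x : G} (hx : x ∈ ⨆ i ∈ r, Wn M i) :
    x ∈ zl (S : Subgroup G) P ∧ ∀ i, i ∉ r → M.nat.e x i = 0 := by
  have h1 : (⨆ i ∈ r, Wn M i) ≤ zl (S : Subgroup G) P := iSup₂_le fun i _ v hv => hv.1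
  refine ⟨h1 hx, fun i hi => ?_⟩
  have h2 : (⨆ j ∈ r, Wn M j) ≤ Cn M i := iSup₂_le fun j hj v hv => ⟨hv.1, hv.2 i fun h => hi (h ▸ hj)⟩
  exact (h2 hx).2

/-- an element of `⟨W i : i ∈ r⟩` is conjugate under `⟨L i : i ∈ r⟩` to an element of `Z_J`. -/
theorem conj_ZJ (r : Set (Fin k)) {x : G} (hx : x ∈ ⨆ i ∈ r, Wn M i) :
    ∃ g ∈ ⨆ i ∈ r, L i, g * x * g⁻¹ ∈ ZL (S : Subgroup G) n := by
  classical
  obtain ⟨hxV, hxs⟩ := sup_W_le r hx
  have hfin : r.Finite := Set.toFinite r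
  obtain ⟨g, hg, h1, h2, h3⟩ := D.conj_aux r hxV hxs hfin.toFinset fun i hi => by simpa using hi
  refine ⟨g, hg, (D.memJ _).2 ⟨h1, fun i => ?_⟩⟩
  by_cases hi : i ∈ r
  · exact h3 i (by simpa using hi)
  · rw [h2 i hi]; rfl

/-- `W i` is covered by the conjugates of `Z i`. -/
theorem cover (i : Fin k) {x : G} (hx : x ∈ Wn M i) : ∃ l ∈ L i, l * x * l⁻¹ ∈ Z i := by
  obtain ⟨l, hl, h1, h2⟩ := D.step i hx.1
  exact ⟨l, hl, (D.memZ i _).2 ⟨⟨M.Vn l (D.LP i hl) _ hx.1, fun j hj => (h2 j hj).2 (hx.2 j hj)⟩, h1⟩⟩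

/-- the order of `W i` -/
theorem card_W [Finite F] (i : Fin k) : Nat.card (Wn M i) = Nat.card F * Nat.card F := by
  rw [(D.ln.fr.blk i).card, D.ln.fr.cardZ i]

end DtL

end Cfsg.Agent.Omega.OM.SWQ
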