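import Cfsg.Agent.Omega.OM.SWQ.HFive
import Cfsg.Agent.Omega.OM.Swap.Fam.CountQ

/-!
# THEOREM SWQ (#21705), CASE I: the hypothesis `Cost` of THEOREM COUNT

`cost_blocks` : `U = ∏ V i` with `T` permuting the `V i`, `|V i| ≥ 16`; bad elements = the elements `≠ 1` of the `V i`.
-/

set_option autoImplicit false

namespace Cfsg.Agent.Omega.OM.SWQ

open Subgroup Cfsg Cfsg.Agent.ZN Cfsg.Agent.ZN.ChoiceBase
open Cfsg.Agent.Omega.FFThm (ElemM)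
open scoped Pointwise commutatorElement

universe u

variable {G : Type u} [Group G] {ι : Type*} {T U : Subgroup G} {V : ι → Subgroup G}

theorem cj_sup_eq (sup : U = ⨆ i, V i) (perm : ∀ t ∈ T, ∀ i, ∃ j, cj t (V i) = V j) {t : G} (ht : t ∈ T) {u : G}
    (hu : u ∈ U) : t * u * t⁻¹ ∈ U := by
  have h1 : cj t U ≤ U := by
    rw [cj_le_iff, sup]
    refine iSup_le fun i => ?_
    obtain ⟨j, hj⟩ := perm t ht i
    rw [← cj_le_iff, hj]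
    exact le_iSup V j
  exact h1 ⟨u, hu, rfl⟩

/-- **`Cost` in CASE I.** -/
theorem cost_blocks [Finite G] (sup : U = ⨆ i, V i) (ab : ∀ x ∈ U, ∀ y ∈ U, x * y = y * x)
    (sq : ∀ x ∈ U, x * x = 1) (ind : ∀ i, ∀ x ∈ V i, x ∈ (⨆ j, ⨆ _ : j ≠ i, V j) → x = 1)
    (perm : ∀ t ∈ T, ∀ i, ∃ j, cj t (V i) = V j) (hc : ∀ i, 16 ≤ Nat.card (V i)) :
    Swap.Fam.Cost T U (fun w => w ≠ 1 ∧ ∃ i, w ∈ V i) := by
  intro E hE hsq hcomm hquad hbad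
  have hinv : ∀ {x : G}, x ∈ U → x⁻¹ = x := fun {x} hx => inv_eq_of_mul_eq_one_left (sq x hx)
  have hmem : ∀ {t : G}, t ∈ E → ∀ {u : G}, u ∈ U → t * u * t⁻¹ ∈ U := fun {t} ht {u} hu =>
    cj_sup_eq sup perm (hE ht) hu
  refine H5.h5 (V := V) ⟨sup, ab, sq, ind, fun e he => perm e (hE he), ⟨fun a ha => ?_, fun a ha b hb => ?_⟩,
    fun a ha b hb x hx => ?_, fun i x hx hx' => ?_⟩ hc
  · rw [mem_centralizer_iff, pow_two]
    intro u hu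
    have h1 := hsq a ha u hu
    calc u * (a * a) = (a * (a * u * a⁻¹) * a⁻¹) * (a * a) := by rw [h1]
      _ = a * a * u := by group
  · rw [mem_centralizer_iff]
    intro u hu
    -- `a b u b⁻¹ a⁻¹ = b a u a⁻¹ b⁻¹`
    have h2 := congrArg (fun t => (a * b) * t * (a * b)⁻¹) (hcomm b⁻¹ (inv_mem hb) a⁻¹ (inv_mem ha) u hu)
    have e1 : (a * b) * (b⁻¹ * (a⁻¹ * u * a⁻¹⁻¹) * b⁻¹⁻¹) * (a * b)⁻¹ = u := by group
    have e2 : (a * b) * (a⁻¹ * (b⁻¹ * u * b⁻¹⁻¹) * a⁻¹⁻¹) * (a * b)⁻¹ =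
        (a * b * a⁻¹ * b⁻¹) * u * (a * b * a⁻¹ * b⁻¹)⁻¹ := by group
    have h3 : u = (a * b * a⁻¹ * b⁻¹) * u * (a * b * a⁻¹ * b⁻¹)⁻¹ := e1.symm.trans (h2.trans e2)
    calc u * (a * b * a⁻¹ * b⁻¹)
        = ((a * b * a⁻¹ * b⁻¹) * u * (a * b * a⁻¹ * b⁻¹)⁻¹) * (a * b * a⁻¹ * b⁻¹) := by rw [← h3]
      _ = a * b * a⁻¹ * b⁻¹ * u := by group
  · have h1 := hquad b hb a ha x hx
    have h2 : b * x * b⁻¹ * x⁻¹ = x * (b * x * b⁻¹) := by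
      rw [hinv hx, ab _ (hmem hb hx) x hx]
    rw [h2, h1]
    group
  · by_contra hne
    have h1 : ⁅U, E⁆ ≤ closure {y | ∃ x ∈ U, ∃ a ∈ E, y = x * (a * x * a⁻¹)} := by
      rw [commutator_le]
      intro u hu a ha
      refine subset_closure ⟨u, hu, a, ha, ?_⟩
      have h3 : a * u⁻¹ * a⁻¹ = a * u * a⁻¹ := by rw [hinv hu]
      rw [commutatorElement_def]
      calc u * a * u⁻¹ * a⁻¹ = u * (a * u⁻¹ * a⁻¹) := by group
        _ = _ := by rw [h3]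
    exact hbad x (h1 hx') ⟨hne, i, hx⟩

end Cfsg.Agent.Omega.OM.SWQ
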