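import Cfsg.Agent.Omega.OM.SWQ.ModQ

/-!
# THEOREM SWQ (#21705), CASE I: (H2), (H3); any `q`

* `h3` : `O` is normalised by `A j`, `o ∈ O` moves `W j` into `C j`: `Z j ≤ [W j, O]`;
* `h2` : a best offender on `X` in `B` centralises `W i` or `Z i ≤ ⟨x x^a⟩`.
-/

set_option autoImplicit false

namespace Cfsg.Agent.Omega.OM.SWQ.HThree

open Subgroup Cfsg Cfsg.Agent.ZN Cfsg.Agent.ZN.ChoiceBase
open Cfsg.Agent.Omega.OM.Lev.Uni (FrL Best fullX)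
open Cfsg.Agent.Omega.OM.SWQ.ModQ (root)
open scoped commutatorElement

universe u

variable {G : Type u} [Group G] [Finite G]

variable {ι : Type*} {B Q V X ZJ : Subgroup G} {L W Z C A : ι → Subgroup G} {q : ℕ}
  (h : FrL B Q V X ZJ L W Z C A q)
include h

/-- **(H3)** -/
theorem h3 {O : Subgroup G} {j : ι} (hO : ∀ a ∈ A j, ∀ o ∈ O, a * o * a⁻¹ ∈ O) {o : G} (ho : o ∈ O)
    (hmv : cj o⁻¹ (W j) ≤ C j) : Z j ≤ ⁅W j, O⁆ := by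
  intro z hz
  obtain ⟨b, hb, v, hv, hne⟩ := (h.blk j).ne
  have hvZ : v ∉ Z j := fun hvZ => hne ((h.blk j).cZ b hb v hvZ)
  obtain ⟨a, ha, e⟩ := root h hv hvZ (inv_mem hz)
  -- `e = [o, a⁻¹] ∈ O` acts on `W j` as `a`
  have he : o * a⁻¹ * o⁻¹ * a ∈ O := by
    have h1 := hO a⁻¹ (inv_mem ha) o⁻¹ (inv_mem ho)
    rw [inv_inv] at h1
    have h2 := mul_mem ho h1
    have e1 : o * (a⁻¹ * o⁻¹ * a) = o * a⁻¹ * o⁻¹ * a := by group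
    rwa [e1] at h2
  have hav : a * v * a⁻¹ ∈ W j := (h.blk j).BV (h.AB j ha) hv
  have h1 : a * (o⁻¹ * (a * v * a⁻¹) * o) = o⁻¹ * (a * v * a⁻¹) * o * a := by
    refine h.AC j a ha _ (hmv ?_)
    refine ⟨a * v * a⁻¹, hav, ?_⟩
    show o⁻¹ * (a * v * a⁻¹) * o⁻¹⁻¹ = o⁻¹ * (a * v * a⁻¹) * o
    rw [inv_inv]
  have h2 : o * a⁻¹ * o⁻¹ * (a * v * a⁻¹) * (o * a⁻¹ * o⁻¹)⁻¹ = a * v * a⁻¹ := by
    have e1 : o * a⁻¹ * o⁻¹ * (a * v * a⁻¹) * (o * a⁻¹ * o⁻¹)⁻¹ =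
        o * (a⁻¹ * (o⁻¹ * (a * v * a⁻¹) * o * a)) * o⁻¹ := by group
    rw [e1, ← h1]; group
  have h3 : ⁅v, o * a⁻¹ * o⁻¹ * a⁆ = z := by
    have hc : v * (a * v * a⁻¹) = a * v * a⁻¹ * v := (h.blk j).comm hv hav
    rw [commutatorElement_def]
    have e1 : v * (o * a⁻¹ * o⁻¹ * a) * v⁻¹ * (o * a⁻¹ * o⁻¹ * a)⁻¹ =
        v * (o * a⁻¹ * o⁻¹ * (a * v * a⁻¹) * (o * a⁻¹ * o⁻¹)⁻¹)⁻¹ := by group
    rw [e1, h2]
    have e2 : z = (a * v * a⁻¹ * v⁻¹)⁻¹ := by rw [e, inv_inv]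
    rw [e2]; group
  rw [← h3]
  exact commutator_mem_commutator hv he

/-- **(H2)** -/
theorem h2 {E : Subgroup G} (hE : E ≤ B) (hb : Best X E) (i : ι) :
    (∀ a ∈ E, ∀ x ∈ W i, a * x = x * a) ∨ Z i ≤ closure {y | ∃ x ∈ W i, ∃ a ∈ E, y = x * (a * x * a⁻¹)} := by
  by_cases h0 : ∀ a ∈ E, ∀ x ∈ W i, a * x = x * a
  · exact Or.inl h0
  right
  rcases fullX (h.blk i).toMd h.Xc ((h.WV i).trans h.VX) hE hb with h1 | ⟨-, -, h5, -⟩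
  · exact absurd h1 h0
  intro z hz
  push Not at h0
  obtain ⟨b, hb', v, hv, hne⟩ := h0
  have hvZ : v ∉ Z i := fun hvZ => hne ((h.blk i).cZ b (hE hb') v hvZ)
  obtain ⟨R, h1, h2, -, h4⟩ := (h.blk i).toMd.relIndex_comm hE hv hvZ
  rw [← h5] at h4
  have h6 : Nat.card R = q := Nat.eq_of_mul_eq_mul_right Nat.card_pos h4
  have h7 : R = Z i := Subgroup.eq_of_le_of_card_ge h1 (by rw [h6, h.cardZ])
  rw [← h7] at hz
  obtain ⟨x, hx, e⟩ := h2 z hz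
  refine subset_closure ⟨v, hv, x, hx, ?_⟩
  have hxv : x * v * x⁻¹ ∈ W i := (h.blk i).BV (hE hx) hv
  have hv2 : v⁻¹ = v := by
    have h8 := SQ1.Bau.elem_sq (h.blk i).el v hv
    rw [pow_two] at h8
    exact inv_eq_of_mul_eq_one_left h8
  rw [e, hv2]
  exact (h.blk i).comm hxv hv

end Cfsg.Agent.Omega.OM.SWQ.HThree
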