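import Cfsg.Agent.Omega.OM.SWQ.Dt
import Cfsg.Agent.ZN.CaseTwo

/-!
# THEOREM SWQ (#21705): the choice of the pair

`Sel D X T F` : a pair with `T ≤ S` for which `(|Phi(T)|, |C_{Z_J}(T)|)` is lexicographically maximal, in the form in which
this is used; `exists_sel`.
-/

set_option autoImplicit false
set_option linter.unusedSectionVars false

namespace Cfsg.Agent.Omega.OM.SWQ

open Subgroup Cfsg Cfsg.Agent.ZN.ChoiceBase Cfsg.Agent.ZN.ChoiceSit
open Cfsg.Agent.ZN (jj zj bau zc zl o2)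
open Cfsg.Agent.Omega.FrameFF (cv)
open Cfsg.Agent.Omega.NO3S.OneLine (NatC)
open Cfsg.Agent.Omega.OM.Lev.Nat
open Cfsg.Agent.Omega.OM.SwapL (Ln BL ZL lb BM Pair Phi exists_pair)

universe u

variable {G : Type u} [Group G] [Finite G] {S : Sylow 2 G} {P : Subgroup G} {n : ℕ}

/-- A 2-group normalising a 2-group `Y ≠ 1` fixes an element `≠ 1` of `Y`. -/
theorem exists_fix {T Y : Subgroup G} (hT : IsPGroup 2 T) (hY : IsPGroup 2 Y) (hne : Y ≠ ⊥)
    (hn : T ≤ normalizer (Y : Set G)) : ∃ y ∈ Y, y ≠ 1 ∧ y ∈ centralizer (T : Set G) := by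
  have : Fact (Nat.Prime 2) := ⟨Nat.prime_two⟩
  let a : MulAction T Y :=
    { smul := fun t y => ⟨t * y * (t : G)⁻¹, (mem_normalizer_iff.1 (hn t.2) y).1 y.2⟩
      one_smul := fun y => Subtype.ext (by change ((1 : T) : G) * y * ((1 : T) : G)⁻¹ = y; simp)
      mul_smul := fun s t y => Subtype.ext (by
        change ((s * t : T) : G) * y * ((s * t : T) : G)⁻¹ = s * (t * y * (t : G)⁻¹) * (s : G)⁻¹
        rw [Subgroup.coe_mul]; group) }
  have hd : 2 ∣ Nat.card Y := by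
    obtain ⟨n, hn⟩ := IsPGroup.iff_card.1 hY
    rcases Nat.eq_zero_or_pos n with h0 | h0
    · exact absurd (Subgroup.card_eq_one.1 (by rw [hn, h0, pow_zero])) hne
    · rw [hn]; exact dvd_pow_self 2 h0.ne'
  have h1 : (1 : Y) ∈ MulAction.fixedPoints T Y := by
    rw [MulAction.mem_fixedPoints]
    intro t
    exact Subtype.ext (by change (t : G) * ((1 : Y) : G) * (t : G)⁻¹ = ((1 : Y) : G); simp)
  obtain ⟨b, hb, hb1⟩ := hT.exists_fixed_point_of_prime_dvd_card_of_fixed_point Y hd h1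
  refine ⟨b, b.2, fun h0 => hb1 (Subtype.ext h0.symm), mem_centralizer_iff.2 fun t ht => ?_⟩
  have h2 : t * (b : G) * t⁻¹ = b := congrArg Subtype.val ((MulAction.mem_fixedPoints.1 hb) ⟨t, ht⟩)
  calc t * (b : G) = t * b * t⁻¹ * t := by group
    _ = b * t := by rw [h2]

section cjp

variable {ι : Type} [Finite ι] {L W Z C A : ι → Subgroup G} {q : ℕ}

/-- `V` commutes with its conjugates under `F` if `V ≤ O₂(F)`, `B ≤ T` (any `q`). -/
theorem comm_of_pair' (h : Ln S P n L W Z C A q) {X T F : Subgroup G} (hp : Pair S P n X T F) {f : G} (hf : f ∈ F)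
    {x y : G} (hx : x ∈ zl (S : Subgroup G) P) (hy : y ∈ zl (S : Subgroup G) P) :
    x * (f * y * f⁻¹) = f * y * f⁻¹ * x := by
  have hV := hp.VO
  have hTn := SwapL.two_norm h hp.syl.2.1 hp.BT
  have hO : o2 F ≤ T := o2_le_syl hp.syl
  have hcO : cj f (o2 F) = o2 F := cj_eq_of_mem_normalizer (le_normalizer_o2 F hf)
  have h1 : cj f (zl (S : Subgroup G) P) ≤ normalizer (zl (S : Subgroup G) P : Set G) := by
    have := cj_mono f hV
    rw [hcO] at this
    exact (this.trans hO).trans hTn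
  have h2 : zl (S : Subgroup G) P ≤ normalizer ((cj f (zl (S : Subgroup G) P) : Subgroup G) : Set G) := by
    have h3 := cj_mono f ((hO.trans hTn : o2 F ≤ normalizer (zl (S : Subgroup G) P : Set G)))
    rw [hcO, cj_normalizer] at h3
    exact hV.trans h3
  by_contra hne
  refine h.hyp.noFF ⟨P, P, f, h.hyp.star, h.hyp.star, h2, h1, fun e => hne ?_⟩
  have h4 := commutator_eq_bot_iff_le_centralizer.1 e
  exact (mem_centralizer_iff.1 (h4 hx) (f * y * f⁻¹) ⟨y, hy, rfl⟩).symm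

/-- Pairs are invariant under conjugation by `N_G(B)`. -/
theorem pair_cj (h : Ln S P n L W Z C A q) {X T F : Subgroup G}
    (hN : normalizer (BL (S : Subgroup G) n : Set G) ≤ X) (hp : Pair S P n X T F) {m : G}
    (hm : m ∈ normalizer (BL (S : Subgroup G) n : Set G)) : Pair S P n X (cj m T) (cj m F) := by
  have hX : cj m X = X := cj_eq_of_mem_normalizer (le_normalizer (hN hm))
  have hX' : cj m⁻¹ X = X := cj_eq_of_mem_normalizer (le_normalizer (inv_mem (hN hm)))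
  have hJ := cj_eq_of_mem_normalizer ((lb S n).norm_B_le hm)
  refine ⟨ZN.CaseTwo.syl_cj m hp.syl, ?_, fun hle => hp.nM ?_, fun K h1 h2 => ?_, ?_, ?_⟩
  · have := cj_mono m hp.BT
    rwa [cj_eq_of_mem_normalizer hm] at this
  · have := cj_mono m⁻¹ hle
    rwa [cj_inv_cj, hX'] at this
  · have h3 := hp.min (cj m⁻¹ K) (by
      have := cj_mono m⁻¹ h1
      rwa [cj_inv_cj] at this) (by
      have h4 := cj_mono m⁻¹ h2.le
      rw [cj_inv_cj] at h4
      refine lt_of_le_of_ne h4 fun e => h2.ne ?_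
      rw [← e, cj_cj_inv])
    have h4 := cj_mono m h3
    rwa [cj_cj_inv, hX] at h4
  · have := cj_mono m hp.VO
    rwa [(h.norm hm).1, ← o2_cj] at this
  · have := cj_mono m hp.fix
    rwa [cj_inf, hJ, cj_centralizer, cj_centralizer, ← o2_cj] at this

end cjp

variable {F : Type} [Field F] [Finite F] {k : ℕ}
  {M : NatC F (S : Subgroup G) P (zl (S : Subgroup G) P) (cv (S : Subgroup G) P) k}
  {L Z A : Fin k → Subgroup G} (D : DtL S P n M L Z A)

include D

namespace DtL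

theorem Z_ne_bot (i : Fin k) : Z i ≠ ⊥ := D.bg.Z_ne i

theorem exists_Z (i : Fin k) : ∃ z ∈ Z i, z ≠ 1 := by
  by_contra hcon
  push Not at hcon
  exact D.Z_ne_bot i ((eq_bot_iff_forall _).2 hcon)

theorem Z_inj {i j : Fin k} {z : G} (hi : z ∈ Z i) (hj : z ∈ Z j) (h1 : z ≠ 1) : i = j := by
  by_contra hne
  apply h1
  have h2 : z ∈ Wn M i ⊓ Cn M i := mem_inf.2 ⟨D.Z_W i hi, D.ln.fr.WjC i j hne (D.Z_W j hj)⟩
  rwa [D.ln.fr.dir i, mem_bot] at h2

theorem Z_inj' {i j : Fin k} (e : Z i = Z j) : i = j := by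
  obtain ⟨z, hz, h1⟩ := D.exists_Z i
  exact D.Z_inj hz (e ▸ hz) h1

/-- an element of `N_G(B)` which centralises an element `≠ 1` of `Z i` normalises `Z i`. -/
theorem fix_of_comm {g : G} (hg : g ∈ normalizer (BL (S : Subgroup G) n : Set G)) {i : Fin k} {z : G}
    (hz : z ∈ Z i) (h1 : z ≠ 1) (hc : g * z = z * g) : cj g (Z i) = Z i := by
  obtain ⟨j, hj, -⟩ := (D.ln.norm hg).2 i
  have h2 : z ∈ Z j := by
    rw [← hj]
    refine ⟨z, hz, ?_⟩
    show g * z * g⁻¹ = z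
    rw [hc]; group
  rw [hj, ← D.Z_inj hz h2 h1]

end DtL

/-- The chosen pair. -/
structure Sel (D : DtL S P n M L Z A) (X T F : Subgroup G) : Prop where
  pair : Pair S P n X T F
  TS : T ≤ (S : Subgroup G)
  cen1 : ∀ Y : Subgroup G, Y ≤ ZL (S : Subgroup G) n → (∀ i ∈ Phi Z T, ∃ z ∈ Z i, z ≠ 1 ∧ z ∈ Y) →
    (∃ j, j ∉ Phi Z T ∧ ∃ z ∈ Z j, z ≠ 1 ∧ z ∈ Y) → centralizer (Y : Set G) ≤ X
  cen2 : (∀ i, i ∈ Phi Z T) → ∀ Y : Subgroup G, Y ≤ ZL (S : Subgroup G) n →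
    ZL (S : Subgroup G) n ⊓ centralizer (T : Set G) < Y → centralizer (Y : Set G) ≤ X

theorem exists_sel {X H : Subgroup G} (hBM : BM S n X) (hD : centralizer (ZL (S : Subgroup G) n : Set G) ≤ X)
    (hN : normalizer (BL (S : Subgroup G) n : Set G) ≤ X)
    (hB : BL (S : Subgroup G) n ≤ H) (hc : H ⊓ centralizer (o2 H : Set G) ≤ o2 H) (hM : ¬ H ≤ X) :
    ∃ T F : Subgroup G, Sel D X T F := by
  classical
  set J : Subgroup G := ZL (S : Subgroup G) n with hJ
  have hJ2 : IsPGroup 2 J := (lb S n).Bp.to_le (lb S n).ZB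
  let μ : Subgroup G → ℕ := fun T =>
    (Phi Z T).ncard * (Nat.card J + 1) + Nat.card ↥(J ⊓ centralizer (T : Set G))
  have hle : ∀ T : Subgroup G, Nat.card ↥(J ⊓ centralizer (T : Set G)) ≤ Nat.card J := fun T =>
    Subgroup.card_le_of_le inf_le_left
  let s : Set ℕ := {m | ∃ T F : Subgroup G, Pair S P n X T F ∧ μ T = m}
  have hs1 : s.Nonempty := by
    obtain ⟨T, F, hp, -⟩ := exists_pair D.ln hBM hD hN hB hc hM
    exact ⟨_, T, F, hp, rfl⟩
  have hs2 : s.Finite := by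
    refine (Set.finite_Iic (Nat.card (Fin k) * (Nat.card J + 1) + Nat.card J)).subset ?_
    rintro m ⟨T, F, -, rfl⟩
    rw [Set.mem_Iic]
    refine Nat.add_le_add (Nat.mul_le_mul_right _ ?_) (hle T)
    rw [← Set.ncard_univ]
    exact Set.ncard_le_ncard (Set.subset_univ _)
  obtain ⟨m₀, hm₀⟩ := hs2.exists_maximal hs1
  obtain ⟨T₀, F₀, hp₀, hμ₀⟩ := hm₀.prop
  have hmax : ∀ T F : Subgroup G, Pair S P n X T F → μ T ≤ μ T₀ := by
    intro T F hp
    rw [hμ₀]
    by_contra hcon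
    push Not at hcon
    exact absurd (hm₀.le_of_ge ⟨T, F, hp, rfl⟩ hcon.le) (by omega)
  -- conjugate into `S`
  have hTN : ∀ T : Subgroup G, IsPGroup 2 T → BL (S : Subgroup G) n ≤ T →
      T ≤ normalizer (BL (S : Subgroup G) n : Set G) := fun T hT hB => (lb S n).two_le hT hB
  have hsyl : Syl (S : Subgroup G) (normalizer (BL (S : Subgroup G) n : Set G)) :=
    ZN.CaseTwo.syl_of_sylow S (hTN _ S.isPGroup' D.BS)
  obtain ⟨T₁, hT₁, hTT₁⟩ := exists_syl hp₀.syl.2.1 (hTN _ hp₀.syl.2.1 hp₀.BT)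
  obtain ⟨m, hm, hmS⟩ := syl_conj hT₁ hsyl
  have hTS : cj m T₀ ≤ (S : Subgroup G) := by
    rw [← hmS]
    exact cj_mono m hTT₁
  have hp := pair_cj D.ln hN hp₀ hm
  have hμ : μ T₀ ≤ μ (cj m T₀) := by
    refine Nat.add_le_add (Nat.mul_le_mul_right _ ?_) ?_
    · choose σ hσ hσ' using (D.ln.norm hm).2
      refine Set.ncard_le_ncard_of_injOn σ ?_ ?_ (Set.toFinite _)
      · intro i hi t ht
        rw [mem_cj] at ht
        have h1 : cj (m⁻¹ * t * m) (Z i) = Z i := hi _ ht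
        rw [← hσ i, cj_cj]
        conv_rhs => rw [← h1]
        rw [cj_cj]
        congr 1
        group
      · intro i _ j _ e
        apply D.Z_inj'
        have h1 : cj m (Z i) = cj m (Z j) := by rw [hσ i, hσ j, e]
        rw [← cj_inv_cj m (Z i), h1, cj_inv_cj]
    · have h1 : J ⊓ centralizer ((cj m T₀ : Subgroup G) : Set G) = cj m (J ⊓ centralizer (T₀ : Set G)) := by
        rw [cj_inf, cj_centralizer, hJ, cj_eq_of_mem_normalizer ((lb S n).norm_B_le hm)]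
      rw [h1, card_cj]
  generalize cj m T₀ = T at hTS hp hμ
  generalize cj m F₀ = K at hp
  have hmax' : ∀ T' F' : Subgroup G, Pair S P n X T' F' → μ T' ≤ μ T := fun T' F' h => (hmax T' F' h).trans hμ
  -- the pair of a centraliser
  have key : ∀ Y : Subgroup G, Y ≤ J → (∃ z ∈ Y, z ≠ 1) → ¬ centralizer (Y : Set G) ≤ X →
      ∃ T' F' : Subgroup G, Pair S P n X T' F' ∧ T' ≤ centralizer (Y : Set G) ∧
        ∀ i, (∃ z ∈ Z i, z ≠ 1 ∧ z ∈ Y) → i ∈ Phi Z T' := by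
    intro Y hYJ hY1 hcon
    have hYne : Y ≠ ⊥ := by
      rintro rfl
      obtain ⟨z, hz, h1⟩ := hY1
      exact h1 (mem_bot.1 hz)
    have hBY : BL (S : Subgroup G) n ≤ centralizer (Y : Set G) :=
      (lb S n).Bc.trans (centralizer_le (by exact_mod_cast hYJ))
    obtain ⟨T', F', hp', hle'⟩ := exists_pair D.ln hBM hD hN hBY
      (Swap.char2_cent D.ln.hyp.ctx.char2 (hJ2.to_le hYJ) hYne) hcon
    refine ⟨T', F', hp', hp'.syl.1.trans hle', ?_⟩
    rintro i ⟨z, hz, h1, hzY⟩ t ht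
    refine D.fix_of_comm (hTN T' hp'.syl.2.1 hp'.BT ht) hz h1 ?_
    exact (mem_centralizer_iff.1 (hle' (hp'.syl.1 ht)) z hzY).symm
  refine ⟨T, K, ⟨hp, hTS, ?_, ?_⟩⟩
  · rintro Y hYJ hPhi ⟨j, hj, hjY⟩
    by_contra hcon
    obtain ⟨z, hz, h1, hzY⟩ := hjY
    obtain ⟨T', F', hp', -, hfix⟩ := key Y hYJ ⟨z, hzY, h1⟩ hcon
    have hsub : insert j (Phi Z T) ⊆ Phi Z T' := by
      rintro i (rfl | hi)
      · exact hfix _ ⟨z, hz, h1, hzY⟩
      · exact hfix i (hPhi i hi)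
    have h2 : (Phi Z T).ncard + 1 ≤ (Phi Z T').ncard := by
      rw [← Set.ncard_insert_of_notMem hj (Set.toFinite _)]
      exact Set.ncard_le_ncard hsub (Set.toFinite _)
    have h3 := hmax' T' F' hp'
    have h4 := Nat.mul_le_mul_right (Nat.card J + 1) h2
    have h5 := hle T
    simp only [μ] at h3
    rw [add_mul, one_mul] at h4
    omega
  · intro hall Y hYJ hlt
    by_contra hcon
    have hne : ∀ i, ∃ z ∈ Z i, z ≠ 1 ∧ z ∈ Y := by
      intro i
      obtain ⟨z, hz, h1, hzT⟩ := exists_fix hp.syl.2.1 (D.bg.Z_two i) (D.Z_ne_bot i) fun t ht =>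
        mem_normalizer_iff_cj.2 (hall i t ht)
      exact ⟨z, hz, h1, hlt.le ⟨D.ln.fr.Z_le i hz, hzT⟩⟩
    have hY1 : ∃ z ∈ Y, z ≠ 1 := by
      obtain ⟨z, hz, h1, hzY⟩ := hne ⟨0, D.k_pos⟩
      exact ⟨z, hzY, h1⟩
    obtain ⟨T', F', hp', hT'Y, hfix⟩ := key Y hYJ hY1 hcon
    have h2 : (Phi Z T).ncard ≤ (Phi Z T').ncard :=
      Set.ncard_le_ncard (fun i _ => hfix i (hne i)) (Set.toFinite _)
    have h3 := hmax' T' F' hp'
    have h4 := Nat.mul_le_mul_right (Nat.card J + 1) h2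
    have h5 : Nat.card ↥(J ⊓ centralizer (T : Set G)) < Nat.card Y := by
      refine lt_of_le_of_ne (Subgroup.card_le_of_le hlt.le) fun e => ?_
      exact hlt.ne (Subgroup.eq_of_le_of_card_ge hlt.le e.ge)
    have h6 : Nat.card Y ≤ Nat.card ↥(J ⊓ centralizer (T' : Set G)) :=
      Subgroup.card_le_of_le (le_inf hYJ (le_centralizer_iff.1 hT'Y))
    simp only [μ] at h3
    omega

end Cfsg.Agent.Omega.OM.SWQ
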