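import Cfsg.Agent.Omega.OM.SwapL.Frame

/-!
# THEOREM SWQ (#21705), CASE I: module facts over the frame `FrL`, any `q`

* `comm_L`, `comm_W`, `nWr` : `L i` on `V`, `W j`, `⟨W j : j ∈ r⟩`;
* `root`, `rootV`, `step`, `trW` : `A i` is a full root group; `L i` fuses `W i` into `Z i`;
* `conj_ZJ` : every element of `∏_{i ∈ r} W i` is conjugate under `⟨L i : i ∈ r⟩` to an element of `∏_{i ∈ r} Z i`.
(The texts of helper590, helper323, `SwapL/Mod.lean`, `q = 2`.)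
-/

set_option autoImplicit false
set_option linter.unusedSectionVars false

namespace Cfsg.Agent.Omega.OM.SWQ.ModQ

open Subgroup Cfsg Cfsg.Agent.PLocal.ThompsonJ Cfsg.Agent.ZN Cfsg.Agent.ZN.ChoiceBase
open Cfsg.Agent.PLocal.ElemAbSup
open Cfsg.Agent.Omega.SQ1.Bau (mem_sup_comm card_sup_comm elem_comm elem_sq)
open Cfsg.Agent.Omega.OM.BlockUniq
open Cfsg.Agent.Omega.OM.Uni
open Cfsg.Agent.Omega.OM.Lev.Uni (FrL Best fullX)
open scoped Pointwise commutatorElement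

universe u

variable {G : Type u} [Group G]

section fr

variable {ι : Type*} {B Q V X ZJ : Subgroup G} {L W Z C A : ι → Subgroup G} {q : ℕ}
  (h : FrL B Q V X ZJ L W Z C A q)
include h

theorem Z_inf {i j : ι} (hij : i ≠ j) {x : G} (hi : x ∈ Z i) (hj : x ∈ Z j) : x = 1 := by
  have h1 : x ∈ W i ⊓ C i := mem_inf.2 ⟨(h.blk i).ZV hi, h.WjC i j hij ((h.blk j).ZV hj)⟩
  rwa [h.dir i, mem_bot] at h1

/-- `[V, B] ≤ ZJ` -/
theorem comm_B [Finite ι] {b v : G} (hb : b ∈ B) (hv : v ∈ V) : b * v * b⁻¹ * v⁻¹ ∈ ZJ := by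
  -- the elements of `V` with this property
  let T : Subgroup G :=
    { carrier := {v | v ∈ V ∧ b * v * b⁻¹ * v⁻¹ ∈ ZJ}
      one_mem' := ⟨one_mem _, by simp⟩
      mul_mem' := by
        rintro x y ⟨hx, hx'⟩ ⟨hy, hy'⟩
        refine ⟨mul_mem hx hy, ?_⟩
        have h1 := h.Vc hx (h.ZJV hy')
        have e : b * (x * y) * b⁻¹ * (x * y)⁻¹ = b * x * b⁻¹ * (b * y * b⁻¹ * y⁻¹) * x⁻¹ := by group
        have e2 : b * x * b⁻¹ * (b * y * b⁻¹ * y⁻¹) * x⁻¹ = (b * x * b⁻¹ * x⁻¹) * (b * y * b⁻¹ * y⁻¹) := by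
          calc b * x * b⁻¹ * (b * y * b⁻¹ * y⁻¹) * x⁻¹ =
                b * x * b⁻¹ * x⁻¹ * (x * (b * y * b⁻¹ * y⁻¹)) * x⁻¹ := by group
            _ = b * x * b⁻¹ * x⁻¹ * (b * y * b⁻¹ * y⁻¹) := by rw [h1]; group
        rw [e, e2]
        exact mul_mem hx' hy'
      inv_mem' := by
        rintro x ⟨hx, hx'⟩
        refine ⟨inv_mem hx, ?_⟩
        have h1 := h.Vc hx (h.ZJV hx')
        have e2 : b * x⁻¹ * b⁻¹ * x⁻¹⁻¹ = (b * x * b⁻¹ * x⁻¹)⁻¹ := by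
          have e3 : b * x⁻¹ * b⁻¹ * x⁻¹⁻¹ = x⁻¹ * (b * x * b⁻¹ * x⁻¹)⁻¹ * x := by group
          have h2 := h.Vc (inv_mem (h.ZJV hx')) hx
          rw [e3, mul_assoc, h2]; group
        rw [e2]
        exact inv_mem hx' }
  have hT : V ≤ T := by
    conv_lhs => rw [h.V_eq]
    refine iSup_le fun i w hw => ⟨h.WV i hw, h.Z_le i ((h.blk i).com b hb w hw)⟩
  exact (hT hv).2

/-- `L i` normalises `W i * ZJ` -/
theorem nE {i : ι} {l : G} (hl : l ∈ L i) {e : G} (he : e ∈ W i ⊔ ZJ) : l * e * l⁻¹ ∈ W i ⊔ ZJ := by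
  obtain ⟨v, hv, z, hz, rfl⟩ := mem_sup_comm (fun v hv z hz => h.Vc (h.WV i hv) (h.ZJV hz)) he
  have hz' : z ∈ zc B := by rw [h.zcB]; exact hz
  have e1 : l * (v * z) * l⁻¹ = (l * v * l⁻¹) * (l * z * l⁻¹ * z⁻¹) * z := by group
  rw [e1]
  exact mul_mem (mem_sup_left (mul_mem ((h.blk i).nV l hl v hv) ((h.blk i).act l hl z hz'))) (mem_sup_right hz)

/-- a subgroup `N` of `V` normalised by `L i` with `[U, B ^ x] ≤ N`, `x ∈ L i`: `[U, L i] ≤ N` -/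
theorem comm_gen {i : ι} {N U : Subgroup G} (hN : ∀ l ∈ L i, ∀ n ∈ N, l * n * l⁻¹ ∈ N)
    (hB : ∀ x ∈ L i, ∀ b ∈ cj x B, ∀ u ∈ U, b * u * b⁻¹ * u⁻¹ ∈ N) {l : G} (hl : l ∈ L i) {u : G} (hu : u ∈ U) :
    l * u * l⁻¹ * u⁻¹ ∈ N := by
  let T : Subgroup G :=
    { carrier := {l | l ∈ L i ∧ ∀ u ∈ U, l * u * l⁻¹ * u⁻¹ ∈ N}
      one_mem' := ⟨one_mem _, fun u _ => by simp⟩
      mul_mem' := by
        rintro x y ⟨hx, hx'⟩ ⟨hy, hy'⟩
        refine ⟨mul_mem hx hy, fun u hu => ?_⟩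
        have e : x * y * u * (x * y)⁻¹ * u⁻¹ = (x * (y * u * y⁻¹ * u⁻¹) * x⁻¹) * (x * u * x⁻¹ * u⁻¹) := by group
        rw [e]
        exact mul_mem (hN x hx _ (hy' u hu)) (hx' u hu)
      inv_mem' := by
        rintro x ⟨hx, hx'⟩
        refine ⟨inv_mem hx, fun u hu => ?_⟩
        have e : x⁻¹ * u * x⁻¹⁻¹ * u⁻¹ = x⁻¹ * (x * u * x⁻¹ * u⁻¹)⁻¹ * x⁻¹⁻¹ := by group
        rw [e]
        exact hN x⁻¹ (inv_mem hx) _ (inv_mem (hx' u hu)) }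
  have hT : L i ≤ T := by
    refine (h.blk i).gen.trans (iSup_le fun x b hb => ⟨?_, hB x x.2 b hb⟩)
    obtain ⟨b', hb', rfl⟩ := hb
    exact mul_mem (mul_mem x.2 ((h.blk i).BL hb')) (inv_mem x.2)
  exact (hT hl).2 u hu

/-- `[V, L i] ≤ W i * ZJ` -/
theorem comm_L [Finite ι] {i : ι} {l v : G} (hl : l ∈ L i) (hv : v ∈ V) : l * v * l⁻¹ * v⁻¹ ∈ W i ⊔ ZJ := by
  refine comm_gen h (fun l hl n hn => nE h hl hn) (fun x hx b hb u hu => ?_) hl hv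
  rw [mem_cj] at hb
  have h1 := h.LV i x⁻¹ (inv_mem hx) u hu
  rw [inv_inv] at h1
  have h2 := nE h hx (mem_sup_right (comm_B h hb h1))
  have e : x * ((x⁻¹ * b * x) * (x⁻¹ * u * x) * (x⁻¹ * b * x)⁻¹ * (x⁻¹ * u * x)⁻¹) * x⁻¹ = b * u * b⁻¹ * u⁻¹ := by
    group
  rwa [e] at h2

/-- `[W j, L i] ≤ W i * Z j`, `i ≠ j` -/
theorem comm_W [Finite ι] {i j : ι} (hij : i ≠ j) {l w : G} (hl : l ∈ L i) (hw : w ∈ W j) :
    l * w * l⁻¹ * w⁻¹ ∈ W i ⊔ Z j := by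
  have hzc : ∀ l ∈ L i, ∀ z ∈ Z j, l * z = z * l := fun l hl z hz =>
    h.LC i l hl z (h.Z_le j hz) (h.WjC i j hij ((h.blk j).ZV hz))
  have hN : ∀ l ∈ L i, ∀ n ∈ W i ⊔ Z j, l * n * l⁻¹ ∈ W i ⊔ Z j := by
    intro l hl n hn
    obtain ⟨v, hv, z, hz, rfl⟩ := mem_sup_comm (fun v hv z hz => h.Vc (h.WV i hv) (h.ZV j hz)) hn
    have e1 : l * (v * z) * l⁻¹ = (l * v * l⁻¹) * (l * z * l⁻¹) := by group
    rw [e1, hzc l hl z hz, mul_inv_cancel_right]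
    exact mul_mem (mem_sup_left ((h.blk i).nV l hl v hv)) (mem_sup_right hz)
  refine comm_gen h hN (fun x hx b hb u hu => ?_) hl hw
  rw [mem_cj] at hb
  -- `x⁻¹ u x = u y`, `y ∈ W i * ZJ`
  have h1 := comm_L h (inv_mem hx) (h.WV j hu)
  rw [inv_inv] at h1
  obtain ⟨y, hy, t, ht, e⟩ := mem_sup_comm (fun v hv z hz => h.Vc (h.WV i hv) (h.ZJV hz)) h1
  have e0 : x⁻¹ * u * x = y * t * u := by
    rw [← e]; group
  obtain ⟨c, hc⟩ : ∃ c, c = x⁻¹ * b * x := ⟨_, rfl⟩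
  rw [← hc] at hb
  have h2 := (h.blk i).com c hb y hy
  have h3 := (h.blk j).com c hb u hu
  have h4 := ((h.mem_ZJ t).1 ht).2 c hb
  have hy' := h.WV i hy
  have ht' := h.ZJV ht
  have hu' := h.WV j hu
  have e2 : c * (x⁻¹ * u * x) * c⁻¹ * (x⁻¹ * u * x)⁻¹ = (c * y * c⁻¹ * y⁻¹) * (c * u * c⁻¹ * u⁻¹) := by
    rw [e0]
    have k1 : y * (t * (c * u * c⁻¹ * u⁻¹) * t⁻¹) = (c * u * c⁻¹ * u⁻¹) * y := by
      have k2 := h.Vc ht' (h.ZV j h3)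
      have k3 := h.Vc hy' (h.ZV j h3)
      rw [k2, mul_inv_cancel_right, k3]
    calc c * (y * t * u) * c⁻¹ * (y * t * u)⁻¹
        = (c * y * c⁻¹) * (c * t) * c⁻¹ * (c * u * c⁻¹ * u⁻¹) * t⁻¹ * y⁻¹ := by group
      _ = (c * y * c⁻¹ * y⁻¹) * (y * (t * (c * u * c⁻¹ * u⁻¹) * t⁻¹)) * y⁻¹ := by rw [h4]; group
      _ = _ := by rw [k1]; group
  have h5 := hN x hx _ (mul_mem (mem_sup_left ((h.blk i).ZV h2)) (mem_sup_right h3))
  rw [← e2, hc] at h5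
  have e3 : x * ((x⁻¹ * b * x) * (x⁻¹ * u * x) * (x⁻¹ * b * x)⁻¹ * (x⁻¹ * u * x)⁻¹) * x⁻¹ = b * u * b⁻¹ * u⁻¹ := by
    group
  rwa [e3] at h5

/-- `⟨W j : j ∈ r⟩` is invariant under `L i`, `i ∈ r` -/
theorem nWr [Finite ι] {r : Set ι} {i : ι} (hi : i ∈ r) {l : G} (hl : l ∈ L i) {x : G} (hx : x ∈ ⨆ j ∈ r, W j) :
    l * x * l⁻¹ ∈ ⨆ j ∈ r, W j := by
  have h1 : (⨆ j ∈ r, W j) ≤ (⨆ j ∈ r, W j).comap (MulAut.conj l).toMonoidHom := by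
    refine iSup₂_le fun j hj w hw => ?_
    show l * w * l⁻¹ ∈ ⨆ j ∈ r, W j
    have hWj : W j ≤ ⨆ j ∈ r, W j := le_iSup₂_of_le j hj le_rfl
    have hWi : W i ≤ ⨆ j ∈ r, W j := le_iSup₂_of_le i hi le_rfl
    by_cases hij : i = j
    · subst hij
      exact hWi ((h.blk i).nV l hl w hw)
    · have h2 := comm_W h hij hl hw
      have h3 : l * w * l⁻¹ * w⁻¹ ∈ ⨆ j ∈ r, W j := (sup_le hWi ((h.blk j).ZV.trans hWj)) h2
      have h4 := mul_mem h3 (hWj hw)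
      rwa [inv_mul_cancel_right] at h4
  exact h1 hx

/-- `A i` acts as a full root group. -/
theorem root [Finite G] {i : ι} {v z : G} (hv : v ∈ W i) (hvZ : v ∉ Z i) (hz : z ∈ Z i) :
    ∃ a ∈ A i, a * v * a⁻¹ * v⁻¹ = z := by
  obtain ⟨R, h1, h2, -, h4⟩ := (h.blk i).toMd.relIndex_comm (h.AB i) hv hvZ
  have h5 := (h.A_full i).2.2
  rw [← h5] at h4
  have h6 : Nat.card R = q := Nat.eq_of_mul_eq_mul_right Nat.card_pos h4
  have h7 : R = Z i := Subgroup.eq_of_le_of_card_ge h1 (by rw [h6, h.cardZ])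
  rw [← h7] at hz
  obtain ⟨x, hx, e⟩ := h2 z hz
  exact ⟨x, hx, e.symm⟩

/-- `[v, A i] = Z i` if `A i` does not centralise `v ∈ V`. -/
theorem rootV [Finite G] {i : ι} {v z : G} (hv : v ∈ V) (hvA : ¬ ∀ a ∈ A i, a * v = v * a) (hz : z ∈ Z i) :
    ∃ a ∈ A i, a * v * a⁻¹ * v⁻¹ = z := by
  obtain ⟨w, hw, c, hc, rfl⟩ := h.WC i v hv
  have hwZ : w ∉ Z i := by
    intro hwZ
    apply hvA
    intro a ha
    have c1 : Commute a w := (h.blk i).cZ a (h.AB i ha) w hwZ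
    have c2 : Commute a c := h.AC i a ha c hc
    exact (c1.mul_right c2).eq
  obtain ⟨a, ha, e⟩ := root h hw hwZ hz
  refine ⟨a, ha, ?_⟩
  have h1 := h.AC i a ha c hc
  have e1 : a * c * a⁻¹ = c := by rw [h1]; group
  have e2 : a * (w * c) * a⁻¹ * (w * c)⁻¹ = a * w * a⁻¹ * (a * c * a⁻¹) * c⁻¹ * w⁻¹ := by group
  rw [e2, e1, ← e]; group

/-- one step: an `L i`-conjugate of `v` is centralised by `A i` -/
theorem step [Finite G] (i : ι) {v : G} (hv : v ∈ V) :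
    ∃ l ∈ L i, ∀ a ∈ A i, a * (l * v * l⁻¹) = l * v * l⁻¹ * a := by
  by_cases h0 : ∀ a ∈ A i, a * v = v * a
  · exact ⟨1, one_mem _, fun a ha => by simpa using h0 a ha⟩
  obtain ⟨l, hl, hne⟩ := h.exists_mv i
  -- `H' = C_V(A i ^ l)`
  obtain ⟨H, hH⟩ : ∃ H, H = V ⊓ centralizer (A i : Set G) := ⟨_, rfl⟩
  have hHc : Nat.card V = Nat.card H * q := by rw [hH]; exact h.card_CVA i
  have hmem : ∀ u, u ∈ cj l H → ∀ a ∈ A i, a * (l⁻¹ * u * l) = l⁻¹ * u * l * a := by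
    intro u hu a ha
    rw [mem_cj, hH] at hu
    exact mem_centralizer_iff.1 (mem_inf.1 hu).2 a ha
  have hHV : cj l H ≤ V := by
    rw [← h.cj_V hl]
    exact cj_mono l (by rw [hH]; exact inf_le_left)
  have hint : Z i ⊓ cj l H = ⊥ := by
    rw [eq_bot_iff]
    rintro x ⟨hx, hxH⟩
    have h5 := hmem _ hxH
    have h6 : l⁻¹ * x * l ∈ Z i := by
      rw [← (h.A_full i).2.1]
      exact mem_inf.2 ⟨(h.blk i).nV' hl ((h.blk i).ZV hx), mem_centralizer_iff.2 h5⟩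
    have h7 : x ∈ cj l (Z i) ⊓ Z i := mem_inf.2 ⟨mem_cj.2 h6, hx⟩
    rwa [h.tri' hl hne] at h7
  have hsup : V = Z i ⊔ cj l H := by
    symm
    refine Subgroup.eq_of_le_of_card_ge (sup_le (h.ZV i) hHV) ?_
    have h1 := card_sup_comm (A := Z i) (B := cj l H) fun a ha b hb => h.Vc (h.ZV i ha) (hHV hb)
    rw [hint, card_bot, mul_one, h.cardZ, card_cj] at h1
    rw [h1, hHc, mul_comm]
  have hv' := hv
  rw [hsup] at hv'
  obtain ⟨z, hz, y, hy, e⟩ := mem_sup_comm (fun a ha b hb => h.Vc (h.ZV i ha) (hHV hb)) hv'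
  obtain ⟨a, ha, e'⟩ := rootV h hv h0 (inv_mem hz)
  have h5 : a * v * a⁻¹ = y := by
    have e1 : a * v * a⁻¹ = a * v * a⁻¹ * v⁻¹ * v := by group
    rw [e1, e', e]; group
  have haL : a ∈ L i := (h.blk i).BL (h.AB i ha)
  refine ⟨l⁻¹ * a, mul_mem (inv_mem hl) haL, fun a' ha' => ?_⟩
  have h6 := hmem _ hy a' ha'
  rw [← h5] at h6
  have e : l⁻¹ * a * v * (l⁻¹ * a)⁻¹ = l⁻¹ * (a * v * a⁻¹) * l := by group
  rw [e]; exact h6

/-- `L i` is transitive on `W i`, mod `Z i`. -/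
theorem trW [Finite G] {i : ι} {x : G} (hx : x ∈ W i) : ∃ l ∈ L i, l * x * l⁻¹ ∈ Z i := by
  obtain ⟨l, hl, h1⟩ := step h i (h.WV i hx)
  refine ⟨l, hl, ?_⟩
  rw [← (h.A_full i).2.1]
  exact mem_inf.2 ⟨(h.blk i).nV l hl x hx, mem_centralizer_iff.2 fun a ha => h1 a ha⟩

/-- `A j` centralises `W i * ZJ`, so it centralises `v` iff it centralises `v ^ l`, `l ∈ L i` -/
theorem keep [Finite ι] {i j : ι} (hij : i ≠ j) {l v : G} (hl : l ∈ L i) (hv : v ∈ V)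
    (hj : ∀ a ∈ A j, a * v = v * a) : ∀ a ∈ A j, a * (l * v * l⁻¹) = l * v * l⁻¹ * a := by
  intro a ha
  obtain ⟨w, hw, z, hz, e⟩ := mem_sup_comm (fun v hv z hz => h.Vc (h.WV i hv) (h.ZJV hz)) (comm_L h hl hv)
  have e1 : l * v * l⁻¹ = w * z * v := by rw [← e]; group
  have c1 : Commute a w := h.AC j a ha w (h.WjC j i (Ne.symm hij) hw)
  have c2 : Commute a z := ((h.mem_ZJ z).1 hz).2 a (h.AB j ha)
  have c3 : Commute a v := hj a ha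
  rw [e1]
  exact ((c1.mul_right c2).mul_right c3).eq

/-- a `⟨L i : i ∈ r⟩`-conjugate of `x ∈ ⟨W i : i ∈ r⟩` lies in `ZJ` -/
theorem conj_aux [Finite G] [Finite ι] (r : Set ι) {x : G} (hx : x ∈ ⨆ i ∈ r, W i) : ∀ s : Finset ι, (∀ i ∈ s, i ∈ r) →
    ∃ g ∈ ⨆ i ∈ r, L i, g * x * g⁻¹ ∈ ⨆ i ∈ r, W i ∧ ∀ i, (i ∈ s ∨ i ∉ r) →
      ∀ a ∈ A i, a * (g * x * g⁻¹) = g * x * g⁻¹ * a := by
  classical
  have hWV : (⨆ i ∈ r, W i) ≤ V := iSup₂_le fun i _ => h.WV i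
  intro s
  induction s using Finset.induction_on with
  | empty =>
    intro _
    refine ⟨1, one_mem _, by simpa using hx, fun i hi a ha => ?_⟩
    rcases hi with hi | hi
    · exact absurd hi (Finset.notMem_empty i)
    have h1 : (⨆ j ∈ r, W j) ≤ C i := iSup₂_le fun j hj => h.WjC i j (fun e => hi (e ▸ hj))
    have := h.AC i a ha x (h1 hx)
    simpa using this
  | insert i s hi ih =>
    intro hs
    obtain ⟨g, hg, hgW, hgA⟩ := ih fun j hj => hs j (Finset.mem_insert_of_mem hj)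
    have hir : i ∈ r := hs i (Finset.mem_insert_self i s)
    obtain ⟨l, hl, hlA⟩ := step h i (hWV hgW)
    have hLr : L i ≤ ⨆ i ∈ r, L i := le_iSup₂_of_le i hir le_rfl
    have e : ∀ y, l * (g * y * g⁻¹) * l⁻¹ = (l * g) * y * (l * g)⁻¹ := fun y => by group
    refine ⟨l * g, mul_mem (hLr hl) hg, ?_, fun j hj => ?_⟩
    · rw [← e]; exact nWr h hir hl hgW
    · rw [← e]
      by_cases hij : i = j
      · subst hij; exact hlA
      · refine keep h hij hl (hWV hgW) (hgA j ?_)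
        rcases hj with hj | hj
        · rcases Finset.mem_insert.1 hj with hj | hj
          · exact absurd hj.symm hij
          · exact Or.inl hj
        · exact Or.inr hj

/-- `⟨W i : i ∈ r⟩ ∩ ZJ = ⟨Z i : i ∈ r⟩` -/
theorem W_inf_ZJ [Finite ι] : ∀ s : Finset ι, ∀ x, x ∈ (⨆ i ∈ s, W i) → x ∈ ZJ → x ∈ ⨆ i ∈ s, Z i := by
  classical
  intro s
  induction s using Finset.induction_on with
  | empty =>
    intro x hx _
    simp only [Finset.notMem_empty, iSup_false, iSup_bot] at hx ⊢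
    exact hx
  | insert i s hi ih =>
    intro x hx hxJ
    have e1 : (⨆ j ∈ insert i s, W j) = W i ⊔ ⨆ j ∈ s, W j := Finset.iSup_insert _ _ _
    have e2 : (⨆ j ∈ insert i s, Z j) = Z i ⊔ ⨆ j ∈ s, Z j := Finset.iSup_insert _ _ _
    rw [e1] at hx
    rw [e2]
    have hsC : (⨆ j ∈ s, W j) ≤ C i := iSup₂_le fun j hj => h.WjC i j (fun e => hi (e ▸ hj))
    obtain ⟨w, hw, y, hy, rfl⟩ := mem_sup_comm (fun v hv z hz => h.Vc (h.WV i hv) (h.CV i (hsC hz))) hx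
    obtain ⟨z, hz, c, hc, hcJ, e⟩ := h.split_ZJ i hxJ
    obtain ⟨h1, h2⟩ := h.uniq hw ((h.blk i).ZV hz) (hsC hy) hc e
    refine mul_mem (mem_sup_left (by rw [h1]; exact hz)) (mem_sup_right (ih y hy (by rw [h2]; exact hcJ)))

/-- **(m3)** -/
theorem conj_ZJ [Finite G] [Finite ι] (r : Set ι) {x : G} (hx : x ∈ ⨆ i ∈ r, W i) :
    ∃ g ∈ ⨆ i ∈ r, L i, g * x * g⁻¹ ∈ ⨆ i ∈ r, Z i := by
  classical
  have hfin : r.Finite := Set.toFinite r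
  obtain ⟨g, hg, hgW, hgA⟩ := conj_aux h r hx hfin.toFinset fun i hi => by simpa using hi
  refine ⟨g, hg, ?_⟩
  have hWV : (⨆ i ∈ r, W i) ≤ V := iSup₂_le fun i _ => h.WV i
  have h1 : g * x * g⁻¹ ∈ ZJ := h.mem_ZJ_of (hWV hgW) fun i => hgA i (by
    by_cases hi : i ∈ r
    · left; simpa using hi
    · right; exact hi)
  have e1 : ∀ U : ι → Subgroup G, (⨆ i ∈ r, U i) = ⨆ i ∈ hfin.toFinset, U i := by
    intro U
    simp only [Set.Finite.mem_toFinset]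
  rw [e1] at hgW ⊢
  exact W_inf_ZJ h _ _ hgW h1

end fr

end Cfsg.Agent.Omega.OM.SWQ.ModQ
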