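import Cfsg.Agent.Omega.OM.SWQ.CaseTwo
import Cfsg.Agent.Omega.OM.SWQ.CostTwo
import Cfsg.Agent.Omega.OM.SWQ.Max

/-!
# THEOREM SWQ (#21705), CASE II

`DtL.case_two` : `T` normalises all `Z i`, `|F| ≠ 4`: contradiction.
-/

set_option autoImplicit false
set_option linter.unusedSectionVars false

namespace Cfsg.Agent.Omega.OM.SWQ.CaseTwo

open Subgroup Cfsg Cfsg.Agent.ZN.ChoiceBase Cfsg.Agent.ZN.ChoiceSit
open Cfsg.Agent.ZN (jj zj bau zc zl o2)
open Cfsg.Agent.Omega.FrameFF (cv)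
open Cfsg.Agent.Omega.NO3S.OneLine (NatC)
open Cfsg.Agent.Omega.OM.Lev.Nat
open Cfsg.Agent.Omega.OM.SwapL (Ln BL ZL lb BM Pair Phi exists_pair)
open Cfsg.Agent.Omega.OM.Swap.Fam (Cost)
open Cfsg.Agent.Omega.OM.FourF (MD)

universe u

section ab

variable {G : Type u} [Group G] {K : Type} [Field K] {T B U Z : Subgroup G} {e : G → K × K}

theorem Cj.ab (c : Cj K T B U Z e) (hT : IsPGroup 2 T) : AB T U Z e where
  ab := c.Uc
  sq := c.U2
  mul := c.mul
  surj := c.surj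
  inj := fun w hw h0 => c.inj w hw 1 (one_mem _) (by
    have h1 := c.mul 1 (one_mem _) 1 (one_mem _)
    rw [mul_one] at h1
    rw [h0, left_eq_add.1 h1])
  memZ := c.memZ
  TW := fun t ht w hw => (mem_normalizer_iff.1 (c.TU ht) w).1 hw
  act := c.act
  T2 := hT

theorem Cj.cost [Finite G] [Finite K] [CharP K 2] (c : Cj K T B U Z e) (hT : IsPGroup 2 T) (h4 : Nat.card K ≠ 4)
    (hne : ¬ Z ≤ centralizer (T : Set G)) : Cost T U fun x => x ∈ Z ∧ x ∉ centralizer (T : Set G) := by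
  have h0 : ∀ x : G, x ∉ centralizer (T : Set G) ↔ ∃ t ∈ T, t * x ≠ x * t := by
    intro x
    rw [mem_centralizer_iff]
    push Not
    exact Iff.rfl
  have h1 := (c.ab hT).cost_two (by
    obtain ⟨x, hx, hx'⟩ := SetLike.not_le_iff_exists.1 hne
    obtain ⟨t, ht, h2⟩ := (h0 x).1 hx'
    exact ⟨t, ht, x, hx, h2⟩) h4
  simpa only [h0] using h1

theorem Cj.h4 [Finite G] [Finite K] [CharP K 2] (c : Cj K T B U Z e) (hT : IsPGroup 2 T) (h4 : Nat.card K ≠ 4)
    {O : Subgroup G} (hO : O ≤ T) (hTO : T ≤ normalizer (O : Set G)) (hmov : ∃ o ∈ O, ∃ z ∈ Z, o * z ≠ z * o)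
    {f : G} (hfO : cj f O = O) (hfU : f ∈ normalizer (U : Set G)) : cj f Z = Z := by
  refine (c.ab hT).h4 hO (fun t ht o ho => (mem_normalizer_iff.1 (hTO ht) o).1 ho) (fun l => ?_) hmov h4
    (fun o ho => by rw [← hfO]; exact ⟨o, ho, rfl⟩) hfU
  obtain ⟨b, hb, h1⟩ := c.full l
  exact ⟨b, c.BT hb, fun w hw => h1 w hw⟩

end ab

variable {G : Type u} [Group G] [Finite G] {S : Sylow 2 G} {P : Subgroup G} {n : ℕ} {F : Type} [Field F] [Finite F]
  [CharP F 2] {k : ℕ} {M : NatC F (S : Subgroup G) P (zl (S : Subgroup G) P) (cv (S : Subgroup G) P) k}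
  {L Z A : Fin k → Subgroup G} (D : DtL S P n M L Z A)

include D in
/-- `Z_J = ∏ Z i` -/
theorem ZL_le : ZL (S : Subgroup G) n ≤ ⨆ i, Z i := by
  classical
  intro z hz
  have c := D.cd
  obtain ⟨hzV, hz1⟩ := (D.memJ z).1 hz
  have key : ∀ s : Finset (Fin k), ∃ w ∈ zl (S : Subgroup G) P, w ∈ (⨆ i, Z i) ∧
      M.nat.e w = fun i => if i ∈ s then M.nat.e z i else 0 := by
    intro s
    induction s using Finset.induction_on with
    | empty => exact ⟨1, one_mem _, one_mem _, by rw [c.map_one]; funext i; simp⟩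
    | insert a s ha ih =>
      obtain ⟨w, hw, hw1, hw2⟩ := ih
      obtain ⟨v, hv, hve⟩ := c.surj (Pi.single a (M.nat.e z a))
      have hvZ : v ∈ Z a := (D.memZ a v).2 ⟨⟨hv, fun j hj => by rw [hve, Pi.single_eq_of_ne hj]⟩, by
        rw [hve, Pi.single_eq_same]; exact hz1 a⟩
      refine ⟨v * w, mul_mem hv hw, mul_mem ((le_iSup Z a) hvZ) hw1, ?_⟩
      rw [c.mul v hv w hw, hve, hw2]
      funext i
      by_cases hi : i = a
      · subst hi
        simp [ha]
      · simp [hi]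
  obtain ⟨w, hw, hw1, hw2⟩ := key Finset.univ
  have h1 : z = w := c.eq_of hzV hw (by rw [hw2]; funext i; simp)
  rw [h1]
  exact hw1

/-- **CASE II** -/
theorem _root_.Cfsg.Agent.Omega.OM.SWQ.DtL.case_two {X T Y : Subgroup G} (hs : Sel D X T Y)
    (hD : centralizer (ZL (S : Subgroup G) n : Set G) ≤ X) (hN : normalizer (BL (S : Subgroup G) n : Set G) ≤ X)
    (hPhi : ∀ i, i ∈ Phi Z T) (hq : Nat.card F ≠ 4) : False := by
  obtain ⟨z₀, f₀, m⟩ := D.exists_md
  have hp := hs.pair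
  have hT2 := hp.syl.2.1
  have hO : o2 Y ≤ T := o2_le_syl hp.syl
  obtain ⟨j, hj⟩ : ∃ j, ¬ Z j ≤ centralizer (T : Set G) := by
    by_contra hcon
    push Not at hcon
    apply hp.nM
    have h1 : ZL (S : Subgroup G) n ≤ centralizer (Y : Set G) := by
      intro z hz
      refine hp.fix ⟨hz, centralizer_le (by exact_mod_cast hO) ?_⟩
      exact (iSup_le hcon) (ZL_le D hz)
    exact (le_centralizer_iff.1 h1).trans hD
  have c : Cj F T (BL (S : Subgroup G) n) (Wn M j) (Z j) (MD.co M.nat z₀ f₀ j) :=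
    cj_of_md m hs.TS hp.BT (fun t ht => hPhi j t ht) (fun b hb z hz => D.cB hb (D.ln.fr.Z_le j hz)) fun v hv => by
      have := SQ1.Bau.elem_sq D.ln.fr.el v hv
      rwa [pow_two] at this
  have hNb : ∀ x ∈ Z j, x ∉ centralizer (T : Set G) → ∀ f ∈ Y, f * x = x * f → f ∈ X := by
    intro x hx hxT f hf hfx
    have hY : (ZL (S : Subgroup G) n ⊓ centralizer (T : Set G)) ⊔ zpowers x ≤ ZL (S : Subgroup G) n :=
      sup_le inf_le_left (by rw [zpowers_le]; exact D.ln.fr.Z_le j hx)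
    have hlt : ZL (S : Subgroup G) n ⊓ centralizer (T : Set G) <
        (ZL (S : Subgroup G) n ⊓ centralizer (T : Set G)) ⊔ zpowers x := by
      refine lt_of_le_of_ne le_sup_left fun e => hxT ?_
      have h1 : x ∈ (ZL (S : Subgroup G) n ⊓ centralizer (T : Set G)) ⊔ zpowers x := mem_sup_right (mem_zpowers x)
      rw [← e] at h1
      exact h1.2
    refine hs.cen2 hPhi _ hY hlt ?_
    have h2 : (ZL (S : Subgroup G) n ⊓ centralizer (T : Set G)) ⊔ zpowers x ≤ centralizer ({f} : Set G) := by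
      refine sup_le (fun z hz => ?_) ?_
      · rw [mem_centralizer_singleton_iff]
        have h3 : z ∈ centralizer (Y : Set G) := hp.fix ⟨hz.1, centralizer_le (by exact_mod_cast hO) hz.2⟩
        exact (mem_centralizer_iff.1 h3 f hf).symm
      · rw [zpowers_le, mem_centralizer_singleton_iff]
        exact hfx.symm
    exact mem_centralizer_iff.2 fun z hz => mem_centralizer_singleton_iff.1 (h2 hz)
  have hTO : T ≤ normalizer (o2 Y : Set G) := hp.syl.1.trans (le_normalizer_o2 Y)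
  refine false_of D.ln hp hD hN c hj hNb (c.cost hT2 hq hj) ?_
  rintro f ⟨hf, hfU⟩
  refine norm_Z D.ln hp hN (fun f hf hx => ?_) hf
    (c.h4 hT2 hq hO hTO (exists_o D.ln hp hj) (cj_eq_of_mem_normalizer (le_normalizer_o2 Y hf)) hfU)
  obtain ⟨x, hx1, hx2⟩ := SetLike.not_le_iff_exists.1 hj
  exact hNb x hx1 hx2 f hf (hx x hx1)

end Cfsg.Agent.Omega.OM.SWQ.CaseTwo
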