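import Cfsg.Agent.Omega.OM.SWQ.ModQ
import Cfsg.Agent.Omega.OM.SwapL.Pair

/-!
# THEOREM SWQ (#21705), CASE I: (N) on `W j`, (TI), (H4); any `q`

`r` a set of indices, `U = ⟨W j : j ∈ r⟩`; `B, L j (j ∈ r) ≤ H`, `L j ≤ M`; (F1) a conjugate of `B` in `M` is a conjugate by
an element of `M`; (N) `C_H(x) ≤ M` for `1 ≠ x ∈ Z j`, `j ∈ r`.

* `nW` : `C_H(x) ≤ M` for `1 ≠ x ∈ W j`, `j ∈ r`;
* `ti` : `f ∈ H`, `1 ≠ x ∈ W i ∩ U^f` (`i ∈ r`) implies `f ∈ M`;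
* `h4` : `N_H(U) ≤ M`;
* `hNW`, `hTI`, `hH4` : the same over the ground frame `Ln S P n L W Z C A q`.
-/

set_option autoImplicit false

namespace Cfsg.Agent.Omega.OM.SWQ.TI

open Subgroup Cfsg Cfsg.Agent.ZN Cfsg.Agent.ZN.ChoiceBase
open Cfsg.Agent.Omega.OM.Lev.Uni (FrL)
open Cfsg.Agent.Omega.OM.SwapL (Ln BL ZL)
open Cfsg.Agent.Omega.OM.SWQ.ModQ (trW conj_ZJ)

universe u

variable {G : Type u} [Group G] [Finite G]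

section fr

variable {ι : Type*} [Finite ι] {B Q V X ZJ : Subgroup G} {L W Z C A : ι → Subgroup G} {q : ℕ}
  (h : FrL B Q V X ZJ L W Z C A q) {M H : Subgroup G} {r : Set ι}
include h

omit [Finite ι] in
/-- (N) on `W j`. -/
theorem nW (hLH : ∀ j ∈ r, L j ≤ H) (hLM : ∀ j ∈ r, L j ≤ M)
    (hNZ : ∀ j ∈ r, ∀ x ∈ Z j, x ≠ 1 → ∀ u ∈ H, u * x = x * u → u ∈ M) :
    ∀ j ∈ r, ∀ x ∈ W j, x ≠ 1 → ∀ u ∈ H, u * x = x * u → u ∈ M := by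
  intro j hj x hx hx1 u hu hux
  obtain ⟨l, hl, hlx⟩ := trW h hx
  have h1 : l * u * l⁻¹ ∈ M := by
    refine hNZ j hj _ hlx (fun e => hx1 ?_) _ (mul_mem (mul_mem (hLH j hj hl) hu) (inv_mem (hLH j hj hl))) ?_
    · exact conj_eq_one_iff.1 e
    · have e1 := congrArg (fun t => l * t * l⁻¹) hux
      have e2 : l * u * l⁻¹ * (l * x * l⁻¹) = l * (u * x) * l⁻¹ := by group
      have e3 : l * x * l⁻¹ * (l * u * l⁻¹) = l * (x * u) * l⁻¹ := by group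
      rw [e2, e3]
      exact e1
  have h2 := mul_mem (mul_mem (inv_mem (hLM j hj hl)) h1) (hLM j hj hl)
  have e : l⁻¹ * (l * u * l⁻¹) * l = u := by group
  rwa [e] at h2

/-- **(TI)** -/
theorem ti (hF1 : ∀ g : G, cj g B ≤ M → g ∈ M) (hBH : B ≤ H) (hLH : ∀ j ∈ r, L j ≤ H) (hLM : ∀ j ∈ r, L j ≤ M)
    (hNZ : ∀ j ∈ r, ∀ x ∈ Z j, x ≠ 1 → ∀ u ∈ H, u * x = x * u → u ∈ M) :
    ∀ i ∈ r, ∀ x ∈ W i, x ≠ 1 → ∀ f ∈ H, x ∈ cj f (⨆ j ∈ r, W j) → f ∈ M := by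
  intro i hi x hx hx1 f hf hxf
  rw [mem_cj] at hxf
  obtain ⟨m, hm, hmx'⟩ := conj_ZJ h r hxf
  have hmx : m * (f⁻¹ * x * f) * m⁻¹ ∈ ZJ := (iSup₂_le fun i _ => h.Z_le i : (⨆ i ∈ r, Z i) ≤ ZJ) hmx'
  have hmM : m ∈ M := (iSup₂_le fun i hi => hLM i hi : (⨆ i ∈ r, L i) ≤ M) hm
  have hmH : m ∈ H := (iSup₂_le fun i hi => hLH i hi : (⨆ i ∈ r, L i) ≤ H) hm
  have hg : f * m⁻¹ ∈ M := by
    refine hF1 _ ?_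
    rintro _ ⟨b, hb, rfl⟩
    have hgH : f * m⁻¹ ∈ H := mul_mem hf (inv_mem hmH)
    refine nW h hLH hLM hNZ i hi x hx hx1 _ (mul_mem (mul_mem hgH (hBH hb)) (inv_mem hgH)) ?_
    have h1 := ((h.mem_ZJ _).1 hmx).2 b hb
    change (f * m⁻¹) * b * (f * m⁻¹)⁻¹ * x = x * ((f * m⁻¹) * b * (f * m⁻¹)⁻¹)
    have h2 := congrArg (fun t => (f * m⁻¹) * t * (f * m⁻¹)⁻¹) h1
    have e1 : (f * m⁻¹) * (m * (f⁻¹ * x * f) * m⁻¹ * b) * (f * m⁻¹)⁻¹ =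
      x * ((f * m⁻¹) * b * (f * m⁻¹)⁻¹) := by group
    have e2 : (f * m⁻¹) * (b * (m * (f⁻¹ * x * f) * m⁻¹)) * (f * m⁻¹)⁻¹ =
      (f * m⁻¹) * b * (f * m⁻¹)⁻¹ * x := by group
    rw [← e1, ← e2]
    exact h2
  have h3 := mul_mem hg hmM
  have e : f * m⁻¹ * m = f := by group
  rwa [e] at h3

/-- **(H4)** -/
theorem h4 (hF1 : ∀ g : G, cj g B ≤ M → g ∈ M) (hBH : B ≤ H) (hLH : ∀ j ∈ r, L j ≤ H) (hLM : ∀ j ∈ r, L j ≤ M)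
    (hNZ : ∀ j ∈ r, ∀ x ∈ Z j, x ≠ 1 → ∀ u ∈ H, u * x = x * u → u ∈ M) (hr : r.Nonempty) :
    H ⊓ normalizer ((⨆ j ∈ r, W j : Subgroup G) : Set G) ≤ M := by
  rintro f ⟨hf, hfU⟩
  obtain ⟨i, hi⟩ := hr
  obtain ⟨b, hb, v, hv, hne⟩ := (h.blk i).ne
  have hv1 : v ≠ 1 := by
    rintro rfl
    exact hne (by simp)
  refine ti h hF1 hBH hLH hLM hNZ i hi v hv hv1 f hf ?_
  rw [mem_normalizer_iff_cj.1 hfU]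
  exact (le_iSup₂_of_le i hi le_rfl : W i ≤ ⨆ j ∈ r, W j) hv

end fr

section line

variable {ι : Type} [Finite ι] {S : Sylow 2 G} {P : Subgroup G} {n : ℕ} {L W Z C A : ι → Subgroup G} {q : ℕ}
  (h : Ln S P n L W Z C A q) {M H : Subgroup G} {r : Set ι}
include h

omit [Finite ι] in
/-- (N) on `W j`. -/
theorem hNW (hLH : ∀ j ∈ r, L j ≤ H) (hLM : ∀ j ∈ r, L j ≤ M)
    (hNZ : ∀ j ∈ r, ∀ x ∈ Z j, x ≠ 1 → ∀ u ∈ H, u * x = x * u → u ∈ M) :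
    ∀ j ∈ r, ∀ x ∈ W j, x ≠ 1 → ∀ u ∈ H, u * x = x * u → u ∈ M :=
  nW h.fr hLH hLM hNZ

/-- **(TI)** -/
theorem hTI (hSM : (S : Subgroup G) ≤ M) (hN : normalizer (BL (S : Subgroup G) n : Set G) ≤ M)
    (hBH : BL (S : Subgroup G) n ≤ H) (hLH : ∀ j ∈ r, L j ≤ H) (hLM : ∀ j ∈ r, L j ≤ M)
    (hNZ : ∀ j ∈ r, ∀ x ∈ Z j, x ≠ 1 → ∀ u ∈ H, u * x = x * u → u ∈ M) :
    ∀ i ∈ r, ∀ x ∈ W i, x ≠ 1 → ∀ f ∈ H, x ∈ cj f (⨆ j ∈ r, W j) → f ∈ M :=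
  ti h.fr (fun _ hg => SwapL.mem_of_cj_B_le S hSM hN hg) hBH hLH hLM hNZ

/-- **(H4)** -/
theorem hH4 (hSM : (S : Subgroup G) ≤ M) (hN : normalizer (BL (S : Subgroup G) n : Set G) ≤ M)
    (hBH : BL (S : Subgroup G) n ≤ H) (hLH : ∀ j ∈ r, L j ≤ H) (hLM : ∀ j ∈ r, L j ≤ M)
    (hNZ : ∀ j ∈ r, ∀ x ∈ Z j, x ≠ 1 → ∀ u ∈ H, u * x = x * u → u ∈ M) (hr : r.Nonempty) :
    H ⊓ normalizer ((⨆ j ∈ r, W j : Subgroup G) : Set G) ≤ M :=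
  h4 h.fr (fun _ hg => SwapL.mem_of_cj_B_le S hSM hN hg) hBH hLH hLM hNZ hr

end line

end Cfsg.Agent.Omega.OM.SWQ.TI
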