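import Cfsg.Agent.Omega.OM.SWQ.Max
import Cfsg.Agent.Omega.OM.SWQ.TI
import Cfsg.Agent.Omega.OM.SWQ.HThree
import Cfsg.Agent.Omega.OM.SWQ.CostOne

/-!
# THEOREM SWQ (#21705), CASE I: some `T`-orbit of indices has length at least two

`phi_univ` : for the chosen pair `T` normalises all `Z i` (`q ≥ 4`).
-/

set_option autoImplicit false
set_option linter.unusedSectionVars false

namespace Cfsg.Agent.Omega.OM.SWQ

open Subgroup Cfsg Cfsg.Agent.ZN.ChoiceBase Cfsg.Agent.ZN.ChoiceSit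
open Cfsg.Agent.ZN (jj zj bau zc zl o2)
open Cfsg.Agent.Omega.FrameFF (cv)
open Cfsg.Agent.Omega.NO3S.OneLine (NatC)
open Cfsg.Agent.Omega.OM.Lev.Nat
open Cfsg.Agent.Omega.OM.SwapL (Ln BL ZL lb BM Pair Phi exists_pair exists_fam)
open Cfsg.Agent.Omega.OmThm

universe u

variable {G : Type u} [Group G] [Finite G] {S : Sylow 2 G} {P : Subgroup G} {n : ℕ}
  {K : Type} [Field K] [Finite K] {k : ℕ}
  {M : NatC K (S : Subgroup G) P (zl (S : Subgroup G) P) (cv (S : Subgroup G) P) k}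
  {L Z A : Fin k → Subgroup G} (D : DtL S P n M L Z A)

include D

namespace DtL

/-- `S` permutes the triples `(W i, C i, Z i)`. -/
theorem perm {t : G} (ht : t ∈ (S : Subgroup G)) : ∃ σ : Equiv.Perm (Fin k), ∀ i,
    cj t (Wn M i) = Wn M (σ i) ∧ cj t (Cn M i) = Cn M (σ i) ∧ cj t (Z i) = Z (σ i) := by
  obtain ⟨σ, hσ⟩ := D.bg.perm t (D.SP ht)
  refine ⟨σ, fun i => ⟨(hσ i).1, (hσ i).2, ?_⟩⟩
  obtain ⟨j, hj, -⟩ := (D.ln.norm (D.S_norm ht)).2 i
  obtain ⟨z, hz, hz1⟩ := D.exists_Z j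
  have h1 : z ∈ Wn M (σ i) := by
    rw [← (hσ i).1]
    exact cj_mono t (D.Z_W i) (by rw [hj]; exact hz)
  have h2 : j = σ i := by
    by_contra hne
    apply hz1
    have h3 : z ∈ Wn M (σ i) ⊓ Cn M (σ i) := mem_inf.2 ⟨h1, D.ln.fr.WjC _ _ (Ne.symm hne) (D.Z_W j hz)⟩
    rwa [D.ln.fr.dir, mem_bot] at h3
  rw [hj, h2]

/-- the support of a conjugate -/
theorem supp {t : G} (ht : t ∈ (S : Subgroup G)) {i j : Fin k} (e : cj t (Z i) = Z j) (x : G) :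
    t * x * t⁻¹ ∈ Cn M j ↔ x ∈ Cn M i := by
  obtain ⟨σ, hσ⟩ := D.perm ht
  have h1 : j = σ i := D.Z_inj' (e.symm.trans (hσ i).2.2)
  subst h1
  rw [← (hσ i).2.1, mem_cj]
  have e1 : t⁻¹ * (t * x * t⁻¹) * t = x := by group
  rw [e1]

theorem W_cj {t : G} (ht : t ∈ (S : Subgroup G)) {i j : Fin k} (e : cj t (Z i) = Z j) :
    cj t (Wn M i) = Wn M j := by
  obtain ⟨σ, hσ⟩ := D.perm ht
  have h1 : j = σ i := D.Z_inj' (e.symm.trans (hσ i).2.2)
  rw [h1]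
  exact (hσ i).1

theorem L_cent {i j : Fin k} (h : j ≠ i) : L j ≤ centralizer (Z i : Set G) := by
  intro l hl
  refine mem_centralizer_iff.2 fun z hz => ?_
  exact (D.ln.fr.LC j l hl z (D.ln.fr.Z_le i hz) (D.ln.fr.WjC j i h (D.Z_W i hz))).symm

end DtL

/-- the family data of a pair over `U ≤ V` -/
theorem lam {X T F : Subgroup G} (hp : Pair S P n X T F) :
    IsElementaryAbelian 2 (NoFF.Basic.V (zl (S : Subgroup G) P) F) := by
  have hcomm : ∀ f ∈ F, ∀ x ∈ zl (S : Subgroup G) P, ∀ y ∈ zl (S : Subgroup G) P,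
      x * (f * y * f⁻¹) = f * y * f⁻¹ * x := fun f hf x hx y hy => comm_of_pair' D.ln hp hf hx hy
  have h1 := Swap.elab_iSup (W := fun f : F => cj (f : G) (zl (S : Subgroup G) P)) (fun f f' x hx y hy => ?_)
    fun f x hx => ?_
  · exact Swap.elab_of h1.1 h1.2
  · rw [mem_cj] at hx hy
    have h2 := hcomm ((f : G)⁻¹ * f') (mul_mem (inv_mem f.2) f'.2) _ hx _ hy
    have e1 : (f : G)⁻¹ * f' * ((f' : G)⁻¹ * y * f') * ((f : G)⁻¹ * f')⁻¹ = (f : G)⁻¹ * y * f := by group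
    rw [e1] at h2
    have h3 := congrArg (fun t => (f : G) * t * (f : G)⁻¹) h2
    have e2 : (f : G) * ((f : G)⁻¹ * x * f * ((f : G)⁻¹ * y * f)) * (f : G)⁻¹ = x * y := by group
    have e3 : (f : G) * ((f : G)⁻¹ * y * f * ((f : G)⁻¹ * x * f)) * (f : G)⁻¹ = y * x := by group
    exact e2.symm.trans (h3.trans e3)
  · rw [mem_cj] at hx
    have h2 := SQ1.Bau.elem_sq D.ln.fr.el _ hx
    rw [pow_two] at h2
    have e : x * x = f * ((f : G)⁻¹ * x * f * ((f : G)⁻¹ * x * f)) * (f : G)⁻¹ := by group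
    rw [e, h2]; group

/-- **CASE I.** -/
theorem phi_univ {X T F : Subgroup G} (s : Sel D X T F) (hLM : ∀ i, L i ≤ X)
    (hD : centralizer (ZL (S : Subgroup G) n : Set G) ≤ X) (hN : normalizer (BL (S : Subgroup G) n : Set G) ≤ X)
    (hK : 4 ≤ Nat.card K) : ∀ i, i ∈ Phi Z T := by
  classical
  by_contra hcon
  push Not at hcon
  obtain ⟨i₀, hi₀⟩ := hcon
  have hp := s.pair
  have hZM : normalizer (ZL (S : Subgroup G) n : Set G) ≤ X := (lb S n).norm_zj_le.trans (sup_le hD hN)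
  have hSM : (S : Subgroup G) ≤ X := ((lb S n).two_le S.isPGroup' (lb S n).BS).trans hN
  have hTM : T ≤ X := s.TS.trans hSM
  have hO : o2 F ≤ T := o2_le_syl hp.syl
  have hTF : T ≤ F := hp.syl.1
  obtain ⟨𝓐, hfam, hnJ, hA⟩ := exists_fam D.ln hp hD hTM hZM
  -- the orbit
  set r : Set (Fin k) := {j | ∃ o ∈ o2 F, cj o (Z i₀) = Z j} with hr
  have hi₀r : i₀ ∈ r := ⟨1, one_mem _, cj_one _⟩
  have hrO : ∀ o ∈ o2 F, ∀ i j, cj o (Z i) = Z j → (i ∈ r ↔ j ∈ r) := by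
    intro o ho i j e
    constructor
    · rintro ⟨o', ho', e'⟩
      exact ⟨o * o', mul_mem ho ho', SwapL.cj_mul_eq e' e⟩
    · rintro ⟨o', ho', e'⟩
      exact ⟨o⁻¹ * o', mul_mem (inv_mem ho) ho', SwapL.cj_mul_eq e' (SwapL.cj_inv_eq e)⟩
  -- an element of `Z_J` with support `r` centralised by `F`
  obtain ⟨x, hxr, hx1, hxO⟩ : ∃ x ∈ (⨆ j ∈ r, Z j : Subgroup G), x ≠ 1 ∧ x ∈ centralizer (o2 F : Set G) := by
    refine exists_fix (isPGroup_o2 F) ?_ ?_ ?_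
    · exact ((lb S n).Bp.to_le (lb S n).ZB).to_le (iSup₂_le fun j _ => D.ln.fr.Z_le j)
    · intro e
      have h1 : Z i₀ ≤ ⊥ := by
        rw [← e]
        exact le_iSup₂_of_le i₀ hi₀r le_rfl
      exact D.Z_ne_bot i₀ (le_bot_iff.1 h1)
    · intro o ho
      rw [mem_normalizer_iff_cj]
      refine Subgroup.eq_of_le_of_card_ge ?_ (by rw [card_cj])
      rw [cj_le_iff]
      refine iSup₂_le fun j hj => ?_
      obtain ⟨l, hl, -⟩ := (D.ln.norm (D.S_norm (s.TS (hO ho)))).2 j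
      rw [← cj_le_iff, hl]
      exact le_iSup₂_of_le l ((hrO o ho j l hl).1 hj) le_rfl
  have hxJ : x ∈ ZL (S : Subgroup G) n := (iSup₂_le fun j _ => D.ln.fr.Z_le j :
    (⨆ j ∈ r, Z j : Subgroup G) ≤ ZL (S : Subgroup G) n) hxr
  have hxF : ∀ f ∈ F, f * x = x * f := fun f hf =>
    mem_centralizer_iff.1 (hp.fix ⟨hxJ, hxO⟩) f hf
  have hxfix : ∀ f ∈ F, f * x * f⁻¹ = x := fun f hf => by rw [hxF f hf]; group
  have hxs : ∀ i, x ∈ Cn M i ↔ i ∉ r := by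
    have h1 : ∀ i, i ∉ r → x ∈ Cn M i := by
      intro i hi
      have h2 : (⨆ j ∈ r, Z j : Subgroup G) ≤ Cn M i :=
        iSup₂_le fun j hj => (D.Z_W j).trans (D.ln.fr.WjC i j fun e => hi (e ▸ hj))
      exact h2 hxr
    obtain ⟨j₁, hj₁⟩ : ∃ j, x ∉ Cn M j := by
      by_contra hcon
      push Not at hcon
      exact hx1 (D.ln.fr.C0 x (D.ln.fr.ZJV hxJ) hcon)
    have hj₁r : j₁ ∈ r := by
      by_contra h2
      exact hj₁ (h1 j₁ h2)
    intro i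
    refine ⟨fun h2 hi => ?_, h1 i⟩
    obtain ⟨o, ho, e⟩ := hi
    obtain ⟨o', ho', e'⟩ := hj₁r
    have ho'' : o' * o⁻¹ ∈ o2 F := mul_mem ho' (inv_mem ho)
    have e2 : cj (o' * o⁻¹) (Z i) = Z j₁ := SwapL.cj_mul_eq (SwapL.cj_inv_eq e) e'
    have h3 := (D.supp (s.TS (hO ho'')) e2 x).2 h2
    rw [hxfix _ (hTF (hO ho''))] at h3
    exact hj₁ h3
  -- `T` stabilises `r`
  have hrT : ∀ t ∈ T, ∀ i j, cj t (Z i) = Z j → i ∈ r → j ∈ r := by
    intro t ht i j e hi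
    by_contra hj
    have h1 := (D.supp (s.TS ht) e x).1
    rw [hxfix t (hTF ht)] at h1
    exact (hxs i).1 (h1 ((hxs j).2 hj)) hi
  -- an element of `O₂(F)` moves `i₀`
  obtain ⟨j₀, hj₀r, hij₀⟩ : ∃ j₀ ∈ r, i₀ ≠ j₀ := by
    have h1 : ∃ t ∈ T, cj t (Z i₀) ≠ Z i₀ := by
      by_contra hcon
      push Not at hcon
      exact hi₀ hcon
    obtain ⟨t, ht, hne⟩ := h1
    obtain ⟨j, hj, -⟩ := (D.ln.norm (D.S_norm (s.TS ht))).2 i₀
    exact ⟨j, hrT t ht i₀ j hj hi₀r, fun e => hne (by rw [hj, ← e])⟩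
  -- every index in `r` is moved by `O₂(F)`
  have hmv : ∀ i ∈ r, ∃ o ∈ o2 F, ∃ j, j ≠ i ∧ cj o (Z i) = Z j := by
    rintro i ⟨o, ho, e⟩
    by_cases h1 : i₀ = i
    · subst h1
      obtain ⟨o', ho', e'⟩ := hj₀r
      exact ⟨o', ho', j₀, hij₀.symm, e'⟩
    · exact ⟨o⁻¹, inv_mem ho, i₀, h1, SwapL.cj_inv_eq e⟩
  have hrPhi : ∀ i ∈ r, i ∉ Phi Z T := by
    intro i hi hPhi
    obtain ⟨o, ho, j, hj, e⟩ := hmv i hi
    exact hj (D.Z_inj' (e.symm.trans (hPhi o (hO ho))))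
  -- the group `Y₀`
  set Y₀ : Subgroup G := ⨆ i ∈ Phi Z T, (Z i ⊓ centralizer (T : Set G)) with hY₀
  have hY₀J : Y₀ ≤ ZL (S : Subgroup G) n := iSup₂_le fun i _ => inf_le_left.trans (D.ln.fr.Z_le i)
  have hFY₀ : F ≤ centralizer (Y₀ : Set G) := by
    rw [le_centralizer_iff]
    refine iSup₂_le fun i _ y hy => hp.fix ⟨D.ln.fr.Z_le i hy.1, ?_⟩
    exact centralizer_le (by exact_mod_cast hO) hy.2
  have hBY₀ : BL (S : Subgroup G) n ≤ centralizer (Y₀ : Set G) :=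
    (lb S n).Bc.trans (centralizer_le (by exact_mod_cast hY₀J))
  have hLY₀ : ∀ j ∈ r, L j ≤ centralizer (Y₀ : Set G) := by
    intro j hj
    rw [le_centralizer_iff]
    refine iSup₂_le fun i hi => inf_le_left.trans ?_
    rw [le_centralizer_iff]
    exact D.L_cent fun e => hrPhi j hj (e ▸ hi)
  have hNZ : ∀ j ∈ r, ∀ x ∈ Z j, x ≠ 1 → ∀ u ∈ centralizer (Y₀ : Set G), u * x = x * u → u ∈ X := by
    intro j hj z hz hz1 u hu huz
    refine s.cen1 (Y₀ ⊔ zpowers z) (sup_le hY₀J (by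
      rw [zpowers_le]; exact D.ln.fr.Z_le j hz)) (fun i hi => ?_)
      ⟨j, hrPhi j hj, z, hz, hz1, mem_sup_right (mem_zpowers z)⟩ ?_
    · obtain ⟨y, hy, hy1, hyT⟩ := exists_fix hp.syl.2.1 (D.bg.Z_two i) (D.Z_ne_bot i) fun t ht =>
        mem_normalizer_iff_cj.2 (hi t ht)
      refine ⟨y, hy, hy1, mem_sup_left ?_⟩
      exact (le_iSup₂_of_le i hi le_rfl : Z i ⊓ centralizer (T : Set G) ≤ Y₀) ⟨hy, hyT⟩
    · have h1 : (Y₀ ⊔ zpowers z : Subgroup G) ≤ centralizer ({u} : Set G) := by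
        refine sup_le (fun y hy => ?_) ?_
        · rw [mem_centralizer_singleton_iff]
          exact mem_centralizer_iff.1 hu y hy
        · rw [zpowers_le, mem_centralizer_singleton_iff]
          exact huz.symm
      exact mem_centralizer_iff.2 fun y hy => mem_centralizer_singleton_iff.1 (h1 hy)
  have hNW := TI.hNW D.ln (r := r) hLY₀ (fun j _ => hLM j) hNZ
  have hH4 := TI.hH4 D.ln hSM hN hBY₀ hLY₀ (fun j _ => hLM j) hNZ ⟨i₀, hi₀r⟩
  -- the situation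
  have hWV : ∀ i, Wn M i ≤ zl (S : Subgroup G) P := D.ln.fr.WV
  have hsup : (⨆ j : r, Wn M j) = ⨆ j ∈ r, Wn M j := iSup_subtype' (f := fun j (_ : j ∈ r) => Wn M j) |>.symm
  have hUV : (⨆ j : r, Wn M j) ≤ zl (S : Subgroup G) P := iSup_le fun j => hWV j
  have hVel := lam D hp
  have hLV : NoFF.Basic.V (⨆ j : r, Wn M j) F ≤ NoFF.Basic.V (zl (S : Subgroup G) P) F :=
    NoFF.Basic.V_le fun f hf => (cj_mono f hUV).trans (NoFF.Basic.Z_le_V hf)
  have hΛ : IsElementaryAbelian 2 (NoFF.Basic.V (⨆ j : r, Wn M j) F) := Swap.elab_mono hVel hLV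
  have hUF : (⨆ j : r, Wn M j) ≤ F := hUV.trans (hp.VO.trans (o2_le F))
  have hTperm : ∀ t ∈ T, ∀ i : r, ∃ j : r, cj t (Wn M i) = Wn M j := by
    rintro t ht ⟨i, hi⟩
    obtain ⟨σ, hσ⟩ := D.perm (s.TS ht)
    exact ⟨⟨σ i, hrT t ht i _ (hσ i).2.2 hi⟩, (hσ i).1⟩
  have hOne : Swap.Fam.One F T (F ⊓ X) 𝓐 (⨆ j : r, Wn M j) (fun j : r => Wn M j) (fun j : r => Z j) :=
    { syl := hp.syl
      TF₀ := le_inf hTF hTM
      F₀F := lt_of_le_of_ne inf_le_left fun e => hp.nM (inf_eq_left.1 e)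
      max := fun K hTK hKF => le_inf hKF.le (hp.min K hTK hKF)
      fam := hfam _ hΛ (NoFF.Basic.V_le fun f hf => by
        have := cj_mono f hUF
        rwa [cj_eq_of_mem_normalizer (le_normalizer hf)] at this) OmThm.XD.X_le_normalizer_W hLV
      nJ := hnJ
      ne := ⟨⟨i₀, hi₀r⟩⟩
      UO := hUV.trans hp.VO
      TU := fun t ht => by
        rw [mem_normalizer_iff_cj]
        refine Subgroup.eq_of_le_of_card_ge ?_ (by rw [card_cj])
        rw [cj_le_iff]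
        refine iSup_le fun j => ?_
        obtain ⟨l, hl⟩ := hTperm t ht j
        rw [← cj_le_iff, hl]
        exact le_iSup (fun j : r => Wn M j) l
      comm := Swap.elab_comm hΛ
      sq := Swap.elab_sq hΛ
      sup := rfl
      H1 := fun i f hf hfz => by
        obtain ⟨z, hz, hz1⟩ := D.exists_Z (i : Fin k)
        exact ⟨hf, hNW i i.2 z (D.Z_W i hz) hz1 f (hFY₀ hf) (hfz z hz)⟩
      H2 := fun E hE hET i => by
        obtain ⟨hEB, h1 | hbest⟩ := hA E hE hET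
        · exact Or.inl fun a ha x hx => h1 a ha x (hWV i hx)
        · exact HThree.h2 D.ln.fr hEB hbest i
      H3 := fun i => by
        obtain ⟨o, ho, j, hj, e⟩ := hmv i i.2
        have h1 := HThree.h3 D.ln.fr (O := o2 F) (j := (i : Fin k)) (fun a ha o ho => ?_) (inv_mem ho) ?_
        · exact h1.trans (commutator_mono (le_iSup (fun j : r => Wn M j) i) le_rfl)
        · have h2 : a ∈ F := hTF (hp.BT (D.ln.fr.AB i ha))
          exact (mem_normalizer_iff.1 (le_normalizer_o2 F h2) o).1 ho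
        · rw [inv_inv, D.W_cj (s.TS (hO ho)) e]
          exact D.ln.fr.WjC i j hj.symm
      H4 := by
        rintro f ⟨hf, hfU⟩
        refine ⟨hf, hH4 ⟨hFY₀ hf, ?_⟩⟩
        rwa [← hsup] }
  have h16 : ∀ i : r, 16 ≤ Nat.card (Wn M (i : Fin k)) := fun i => by
    rw [D.card_W]
    exact Nat.mul_le_mul hK hK
  have hcost := cost_blocks (T := T) (U := ⨆ j : r, Wn M j) (V := fun j : r => Wn M j) rfl
    (fun x hx y hy => D.ln.fr.Vc (hUV hx) (hUV hy))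
    (fun x hx => by rw [← pow_two]; exact SQ1.Bau.elem_sq D.ln.fr.el x (hUV hx)) ?_ hTperm h16
  · refine hOne.false_of_count ?_ hcost
    rintro x - ⟨hx1, i, hxi⟩ f hf hfx
    exact ⟨hf, hNW i i.2 x hxi hx1 f (hFY₀ hf) hfx⟩
  · rintro ⟨i, hi⟩ x hx hx'
    have h1 : (⨆ j : r, ⨆ _ : j ≠ ⟨i, hi⟩, Wn M (j : Fin k)) ≤ Cn M i := by
      refine iSup_le fun j => iSup_le fun hj => ?_
      exact D.ln.fr.WjC i j fun e => hj (Subtype.ext e.symm)
    have h2 : x ∈ Wn M i ⊓ Cn M i := mem_inf.2 ⟨hx, h1 hx'⟩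
    rwa [D.ln.fr.dir i, mem_bot] at h2

end Cfsg.Agent.Omega.OM.SWQ
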