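import Cfsg.Agent.Omega.OM.SwapL.Plug
import Cfsg.Agent.Omega.OM.Swap.Fam.CountQ
import Cfsg.Agent.Omega.OM.FourF.Mod

/-!
# THEOREM SWQ (#21705), CASE II: `T` normalises `Z j` and does not centralise it, `q > 4`

`U = W j`, `bad` = the elements of `Z j` not centralised by `T`.

* `comm_pair`, `elab_V` : `⟨V^F⟩` is elementary abelian (any `q`);
* `Cj K T B U Z e` : coordinates on `U = W j`, `MD.cj`;
* `false_of` : the instance of `Fam.One`, `One.false_of_count`.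
-/

set_option autoImplicit false
set_option linter.unusedSectionVars false

namespace Cfsg.Agent.Omega.OM.SWQ.CaseTwo

open Subgroup Cfsg Cfsg.Agent.ZN.ChoiceBase Cfsg.Agent.ZN.ChoiceSit
open Cfsg.Agent.ZN (jj zj bau zc zl o2)
open Cfsg.Agent.Omega.NO3S.Level (lev Lev lev_isLev)
open Cfsg.Agent.Omega.OM.LevD (LB K0)
open Cfsg.Agent.Omega.OM.SwapL (Ln BL ZL Pair exists_fam lb wc two_norm)
open Cfsg.Agent.Omega.OM.Swap.Fam (Fm Cost)
open Cfsg.Agent.Omega.OM.FourF (MD Act)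
open Cfsg.Agent.Omega.FFThm (NatK)
open scoped commutatorElement

universe u

variable {G : Type u} [Group G] [Finite G]

section line

variable {ι : Type} [Finite ι] {S : Sylow 2 G} {P : Subgroup G} {n : ℕ} {L W Z C A : ι → Subgroup G} {q : ℕ}

/-- `V` commutes with its conjugates under `F`. -/
theorem comm_pair (h : Ln S P n L W Z C A q) {M T F : Subgroup G} (hp : Pair S P n M T F) {f : G} (hf : f ∈ F)
    {x y : G} (hx : x ∈ zl (S : Subgroup G) P) (hy : y ∈ zl (S : Subgroup G) P) :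
    x * (f * y * f⁻¹) = f * y * f⁻¹ * x := by
  have hV := hp.VO
  have hTn := two_norm h hp.syl.2.1 hp.BT
  have hO : o2 F ≤ T := o2_le_syl hp.syl
  have hcO : cj f (o2 F) = o2 F := cj_eq_of_mem_normalizer (le_normalizer_o2 F hf)
  have h1 : cj f (zl (S : Subgroup G) P) ≤ normalizer (zl (S : Subgroup G) P : Set G) := by
    have := cj_mono f hV
    rw [hcO] at this
    exact (this.trans hO).trans hTn
  have h2 : zl (S : Subgroup G) P ≤ normalizer ((cj f (zl (S : Subgroup G) P) : Subgroup G) : Set G) := by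
    have h3 := cj_mono f ((hO.trans hTn : o2 F ≤ normalizer (zl (S : Subgroup G) P : Set G)))
    rw [hcO, cj_normalizer] at h3
    exact hV.trans h3
  by_contra hne
  refine h.hyp.noFF ⟨P, P, f, h.hyp.star, h.hyp.star, h2, h1, fun e => hne ?_⟩
  have h4 := commutator_eq_bot_iff_le_centralizer.1 e
  exact (mem_centralizer_iff.1 (h4 hx) (f * y * f⁻¹) ⟨y, hy, rfl⟩).symm

/-- `⟨V^F⟩` is elementary abelian. -/
theorem elab_V (h : Ln S P n L W Z C A q) {M T F : Subgroup G} (hp : Pair S P n M T F) :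
    IsElementaryAbelian 2 (NoFF.Basic.V (zl (S : Subgroup G) P) F) := by
  have h1 := Swap.elab_iSup (W := fun f : F => cj (f : G) (zl (S : Subgroup G) P)) (fun f f' x hx y hy => ?_)
    fun f x hx => ?_
  · exact Swap.elab_of h1.1 h1.2
  · rw [mem_cj] at hx hy
    have h2 := comm_pair h hp (mul_mem (inv_mem f.2) f'.2) hx hy
    have e1 : (f : G)⁻¹ * f' * ((f' : G)⁻¹ * y * f') * ((f : G)⁻¹ * f')⁻¹ = (f : G)⁻¹ * y * f := by group
    rw [e1] at h2
    have h3 := congrArg (fun t => (f : G) * t * (f : G)⁻¹) h2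
    have e2 : (f : G) * ((f : G)⁻¹ * x * f * ((f : G)⁻¹ * y * f)) * (f : G)⁻¹ = x * y := by group
    have e3 : (f : G) * ((f : G)⁻¹ * y * f * ((f : G)⁻¹ * x * f)) * (f : G)⁻¹ = y * x := by group
    exact e2.symm.trans (h3.trans e3)
  · rw [mem_cj] at hx
    have h2 := SQ1.Bau.elem_sq h.fr.el _ hx
    rw [pow_two] at h2
    have e : x * x = f * ((f : G)⁻¹ * x * f * ((f : G)⁻¹ * x * f)) * (f : G)⁻¹ := by group
    rw [e, h2]; group

end line

/-- Coordinates on `U = W j`. -/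
structure Cj (K : Type) [Field K] (T B U Z : Subgroup G) (e : G → K × K) : Prop where
  TU : T ≤ normalizer (U : Set G)
  BT : B ≤ T
  Uc : ∀ v ∈ U, ∀ w ∈ U, v * w = w * v
  U2 : ∀ v ∈ U, v * v = 1
  mul : ∀ v ∈ U, ∀ w ∈ U, e (v * w) = e v + e w
  inj : ∀ v ∈ U, ∀ w ∈ U, e v = e w → v = w
  surj : ∀ p, ∃ v ∈ U, e v = p
  memZ : ∀ v, v ∈ Z ↔ v ∈ U ∧ (e v).2 = 0
  act : ∀ t ∈ T, ∃ (s : K ≃+* K) (l : K), Act U e t (fun p => (s p.1 + l * s p.2, s p.2))
  full : ∀ l, ∃ b ∈ B, Act U e b (fun p => (p.1 + l * p.2, p.2))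
  BZ : ∀ b ∈ B, ∀ z ∈ Z, b * z = z * b

omit [Finite G] in
theorem cj_of_md {F : Type} [Field F] [Finite F] {S P V D : Subgroup G} {k : ℕ}
    {N : NatK F S P V D k} {B ZJ : Subgroup G} {W Z : Fin k → Subgroup G} {z₀ f₀ : Fin k → F}
    (h : MD N B ZJ W Z z₀ f₀) {T : Subgroup G} (hTS : T ≤ S) (hBT : B ≤ T) {i : Fin k}
    (hT : ∀ t ∈ T, cj t (Z i) = Z i) (hB : ∀ b ∈ B, ∀ z ∈ Z i, b * z = z * b) (h2 : ∀ v ∈ V, v * v = 1) :
    Cj F T B (W i) (Z i) (MD.co N z₀ f₀ i) where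
  TU := fun t ht => h.nW (hTS ht) (hT t ht)
  BT := hBT
  Uc := fun v hv w hw => h.cn.toCd.VV v (h.WV hv) w (h.WV hw)
  U2 := fun v hv => h2 v (h.WV hv)
  mul := fun _ hv _ hw => h.co_mul (h.WV hv) (h.WV hw)
  inj := fun _ hv _ hw => h.co_inj hv hw
  surj := h.co_surj i
  memZ := fun _ => h.co_Z
  act := fun t ht => h.act (hTS ht) (hT t ht)
  full := h.full i
  BZ := hB

section cj

variable {K : Type} [Field K] [CharP K 2] {T B U Z : Subgroup G} {e : G → K × K} (c : Cj K T B U Z e)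
include c

theorem Cj.ZU : Z ≤ U := fun _ hv => ((c.memZ _).1 hv).1

theorem Cj.cn {t v : G} (ht : t ∈ T) (hv : v ∈ U) : t * v * t⁻¹ ∈ U := (mem_normalizer_iff.1 (c.TU ht) v).1 hv

/-- elements of `T` which centralise `Z` -/
theorem Cj.lin {t : G} (ht : t ∈ T) (hZ : ∀ z ∈ Z, t * z = z * t) : ∃ l, Act U e t (fun p => (p.1 + l * p.2, p.2)) := by
  obtain ⟨s, l, hs⟩ := c.act t ht
  refine ⟨l, fun w hw => ?_⟩
  have key : ∀ x : K, s x = x := by
    intro x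
    obtain ⟨v, hv, hve⟩ := c.surj (x, 0)
    have h1 := hs v hv
    have hvZ : v ∈ Z := (c.memZ v).2 ⟨hv, by rw [hve]⟩
    have h2 : t * v * t⁻¹ = v := by rw [hZ v hvZ]; group
    rw [h2, hve] at h1
    have h3 := congrArg Prod.fst h1
    simp only [map_zero, mul_zero, add_zero] at h3
    exact h3.symm
  rw [hs w hw]
  simp only [key]

theorem Cj.U_cent {t : G} (ha : Act U e t (fun p => (p.1 + 0 * p.2, p.2))) (ht : t ∈ T) {x : G} (hx : x ∈ U) :
    t * x = x * t := by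
  have h1 : t * x * t⁻¹ = x := c.inj _ (c.cn ht hx) _ hx (by
    rw [ha x hx]; simp)
  calc t * x = t * x * t⁻¹ * t := by group
    _ = x * t := by rw [h1]

/-- `Z ≤ [U, t]` if `t` acts as `(x + l y, y)`, `l ≠ 0`. -/
theorem Cj.Z_le {t : G} {l : K} (ht : t ∈ T) (hl : l ≠ 0) (ha : Act U e t (fun p => (p.1 + l * p.2, p.2)))
    {z : G} (hz : z ∈ Z) : ∃ x ∈ U, z = x * (t * x * t⁻¹) := by
  obtain ⟨x, hx, hxe⟩ := c.surj (0, l⁻¹ * (e z).1)
  have hzU := c.ZU hz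
  have hz2 := ((c.memZ z).1 hz).2
  have hx' := c.cn ht hx
  refine ⟨x, hx, c.inj _ hzU _ (mul_mem hx hx') ?_⟩
  rw [c.mul _ hx _ hx', ha x hx, hxe]
  ext
  · simp only [Prod.fst_add, zero_add]
    rw [← mul_assoc, mul_inv_cancel₀ hl, one_mul]
  · simp only [Prod.snd_add]
    rw [hz2, CharTwo.add_self_eq_zero]

/-- the commutator `[o, b]` -/
theorem Cj.comm_act {o b : G} (ho : o ∈ T) (hb : b ∈ T) {s : K ≃+* K} {l m : K}
    (hoa : Act U e o (fun p => (s p.1 + l * s p.2, s p.2))) (hba : Act U e b (fun p => (p.1 + m * p.2, p.2))) :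
    Act U e (o * b * o⁻¹ * b⁻¹) (fun p => (p.1 + (s m + m) * p.2, p.2)) := by
  -- `o b o⁻¹`
  have h1 : Act U e (o * b * o⁻¹) (fun p => (p.1 + s m * p.2, p.2)) := by
    intro w hw
    have hw' : o⁻¹ * w * o ∈ U := by
      have := c.cn (inv_mem ho) hw
      rwa [inv_inv] at this
    have e1 : o * (o⁻¹ * w * o) * o⁻¹ = w := by group
    have h2 := hoa _ hw'
    rw [e1] at h2
    have h3 := hoa _ (c.cn hb hw')
    rw [hba _ hw'] at h3
    have e2 : o * b * o⁻¹ * w * (o * b * o⁻¹)⁻¹ = o * (b * (o⁻¹ * w * o) * b⁻¹) * o⁻¹ := by group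
    rw [e2, h3, h2]
    ext
    · simp only [map_add, map_mul]; ring
    · rfl
  intro w hw
  have hw' : b⁻¹ * w * b ∈ U := by
    have := c.cn (inv_mem hb) hw
    rwa [inv_inv] at this
  have e1 : b * (b⁻¹ * w * b) * b⁻¹ = w := by group
  have h2 := hba _ hw'
  rw [e1] at h2
  have h3 := h1 _ hw'
  have e2 : o * b * o⁻¹ * b⁻¹ * w * (o * b * o⁻¹ * b⁻¹)⁻¹ = o * b * o⁻¹ * (b⁻¹ * w * b) * (o * b * o⁻¹)⁻¹ := by group
  rw [e2, h3, h2]
  ext
  · simp only
    have := CharTwo.add_self_eq_zero (m * (e (b⁻¹ * w * b)).2)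
    linear_combination (-1 : K) * this
  · rfl

/-- (H3) -/
theorem Cj.h3 {O : Subgroup G} (hOT : O ≤ T) (hTO : T ≤ normalizer (O : Set G))
    (hne : ∃ o ∈ O, ∃ z ∈ Z, o * z ≠ z * o) : Z ≤ ⁅U, O⁆ := by
  obtain ⟨o, ho, z₁, hz₁, hoz⟩ := hne
  obtain ⟨s, l, hs⟩ := c.act o (hOT ho)
  obtain ⟨m, hm⟩ : ∃ m, s m ≠ m := by
    by_contra hcon
    push Not at hcon
    apply hoz
    obtain ⟨h1, h2⟩ := (c.memZ z₁).1 hz₁
    have h3 : o * z₁ * o⁻¹ = z₁ := c.inj _ (c.cn (hOT ho) h1) _ h1 (by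
      rw [hs z₁ h1]
      ext
      · simp only [hcon, h2, mul_zero, add_zero]
      · simp only [hcon])
    calc o * z₁ = o * z₁ * o⁻¹ * o := by group
      _ = z₁ * o := by rw [h3]
  obtain ⟨b, hb, hba⟩ := c.full m
  have hbT := c.BT hb
  have h1 := c.comm_act (hOT ho) hbT hs hba
  have hl : s m + m ≠ 0 := fun h0 => hm (by
    have := congrArg (· + m) h0
    simp only [zero_add] at this
    rwa [add_assoc, CharTwo.add_self_eq_zero, add_zero] at this)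
  have hc : o * b * o⁻¹ * b⁻¹ ∈ O := by
    have h2 : b * o⁻¹ * b⁻¹ ∈ O := (mem_normalizer_iff.1 (hTO hbT) _).1 (inv_mem ho)
    have e1 : o * b * o⁻¹ * b⁻¹ = o * (b * o⁻¹ * b⁻¹) := by group
    rw [e1]
    exact mul_mem ho h2
  intro z hz
  obtain ⟨x, hx, rfl⟩ := c.Z_le (hOT hc) hl h1 hz
  have hx' := c.cn (hOT hc) hx
  have e2 : (o * b * o⁻¹ * b⁻¹ * x * (o * b * o⁻¹ * b⁻¹)⁻¹)⁻¹ = o * b * o⁻¹ * b⁻¹ * x * (o * b * o⁻¹ * b⁻¹)⁻¹ :=
    inv_eq_of_mul_eq_one_right (c.U2 _ hx')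
  rw [← e2]
  have e3 : x * (o * b * o⁻¹ * b⁻¹ * x * (o * b * o⁻¹ * b⁻¹)⁻¹)⁻¹ = ⁅x, o * b * o⁻¹ * b⁻¹⁆ := by
    rw [commutatorElement_def]; group
  rw [e3]
  exact commutator_mem_commutator hx hc

/-- (H2) -/
theorem Cj.h2 {A : Subgroup G} (hA : A ≤ B) : (∀ a ∈ A, ∀ x ∈ U, a * x = x * a) ∨
    Z ≤ closure {y | ∃ x ∈ U, ∃ a ∈ A, y = x * (a * x * a⁻¹)} := by
  by_cases hall : ∀ a ∈ A, ∀ x ∈ U, a * x = x * a
  · exact Or.inl hall
  right
  push Not at hall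
  obtain ⟨a, ha, x, hx, hne⟩ := hall
  have haT := c.BT (hA ha)
  obtain ⟨l, hl⟩ := c.lin haT (c.BZ a (hA ha))
  have hl0 : l ≠ 0 := by
    rintro rfl
    exact hne (c.U_cent hl haT hx)
  intro z hz
  obtain ⟨y, hy, rfl⟩ := c.Z_le haT hl0 hl hz
  exact subset_closure ⟨y, hy, a, ha, rfl⟩

end cj

section line

variable {ι : Type} [Finite ι] {S : Sylow 2 G} {P : Subgroup G} {n : ℕ} {L W Z C A : ι → Subgroup G} {q : ℕ}
  {K : Type} [Field K] [CharP K 2]

/-- `O₂(F)` does not centralise `Z j`. -/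
theorem exists_o (h : Ln S P n L W Z C A q) {M T F : Subgroup G} (hp : Pair S P n M T F) {j : ι}
    (hne : ¬ Z j ≤ centralizer (T : Set G)) : ∃ o ∈ o2 F, ∃ z ∈ Z j, o * z ≠ z * o := by
  by_contra hcon
  push Not at hcon
  apply hne
  intro z hz
  have h1 : z ∈ centralizer (F : Set G) :=
    hp.fix ⟨h.fr.Z_le j hz, mem_centralizer_iff.2 fun o ho => hcon o ho z hz⟩
  exact centralizer_le (by exact_mod_cast hp.syl.1) h1

/-- (**) `N_F(Z j) ≤ M` -/
theorem norm_Z (h : Ln S P n L W Z C A q) {M T F : Subgroup G} (hp : Pair S P n M T F)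
    (hN : normalizer (BL (S : Subgroup G) n : Set G) ≤ M) {j : ι}
    (H1 : ∀ f ∈ F, (∀ x ∈ Z j, f * x = x * f) → f ∈ M) {f : G} (hf : f ∈ F) (hfZ : cj f (Z j) = Z j) : f ∈ M := by
  set Q : Subgroup G := F ⊓ centralizer (Z j : Set G) with hQ
  have hB : BL (S : Subgroup G) n ≤ Q :=
    le_inf (hp.BT.trans hp.syl.1) ((lb S n).Bc.trans (centralizer_le (by exact_mod_cast h.fr.Z_le j)))
  obtain ⟨R, hR, hBR⟩ := exists_syl (lb S n).Bp hB
  have hQf : cj f Q = Q := by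
    rw [hQ, cj_inf, cj_centralizer, hfZ, cj_eq_of_mem_normalizer (le_normalizer hf)]
  have hR' : Syl (cj f R) Q := by
    refine ⟨(cj_mono f hR.1).trans hQf.le, isPGroup_cj f hR.2.1, fun T' hT' hp' hle => ?_⟩
    have h3 : cj f⁻¹ T' ≤ Q := by
      have := cj_mono f⁻¹ hT'
      rwa [← hQf, cj_inv_cj] at this
    have h4 := hR.2.2 (cj f⁻¹ T') h3 (isPGroup_cj _ hp') (cj_le_iff.1 hle)
    rw [← h4, cj_cj_inv]
  obtain ⟨x, hx, e⟩ := syl_conj hR' hR
  have h5 : cj (x * f) R = R := by rw [← cj_cj]; exact e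
  have h6 : cj (x * f) (BL (S : Subgroup G) n) = BL (S : Subgroup G) n := by
    have h7 : cj (x * f) (BL (S : Subgroup G) n) ≤ R := (cj_mono _ hBR).trans h5.le
    exact wc S n R hR.2.1 hBR (x * f) h7
  have h8 : x * f ∈ M := hN (mem_normalizer_iff_cj.2 h6)
  have h9 : x ∈ M := H1 x hx.1 fun z hz => (mem_centralizer_iff.1 hx.2 z hz).symm
  have := mul_mem (inv_mem h9) h8
  rwa [inv_mul_cancel_left] at this

/-- **CASE II** -/
theorem false_of (h : Ln S P n L W Z C A q) {M T F : Subgroup G} (hp : Pair S P n M T F)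
    (hD : centralizer (ZL (S : Subgroup G) n : Set G) ≤ M) (hN : normalizer (BL (S : Subgroup G) n : Set G) ≤ M)
    {j : ι} {e : G → K × K} (c : Cj K T (BL (S : Subgroup G) n) (W j) (Z j) e)
    (hne : ¬ Z j ≤ centralizer (T : Set G))
    (hNb : ∀ x ∈ Z j, x ∉ centralizer (T : Set G) → ∀ f ∈ F, f * x = x * f → f ∈ M)
    (hcost : Cost T (W j) fun x => x ∈ Z j ∧ x ∉ centralizer (T : Set G))
    (h4 : F ⊓ normalizer (W j : Set G) ≤ M) : False := by
  have hZM : normalizer (ZL (S : Subgroup G) n : Set G) ≤ M := (lb S n).norm_zj_le.trans (sup_le hD hN)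
  have hTN : T ≤ normalizer (BL (S : Subgroup G) n : Set G) := (lb S n).two_le hp.syl.2.1 hp.BT
  have hTM : T ≤ M := hTN.trans hN
  have hO : o2 F ≤ T := o2_le_syl hp.syl
  obtain ⟨𝓐, hfam, hnJ, hA⟩ := exists_fam h hp hD hTM hZM
  have hVel := elab_V h hp
  have hUV : W j ≤ zl (S : Subgroup G) P := h.fr.WV j
  have hLV : NoFF.Basic.V (W j) F ≤ NoFF.Basic.V (zl (S : Subgroup G) P) F :=
    NoFF.Basic.V_le fun f hf => (cj_mono f hUV).trans (NoFF.Basic.Z_le_V hf)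
  have hUO : W j ≤ o2 F := hUV.trans hp.VO
  have hUF : W j ≤ F := hUO.trans (o2_le F)
  have hLF : NoFF.Basic.V (W j) F ≤ F := by
    refine NoFF.Basic.V_le fun f hf => ?_
    have := cj_mono f hUF
    rwa [cj_eq_of_mem_normalizer (le_normalizer hf)] at this
  have hel := Swap.elab_mono hVel hLV
  have H1 : ∀ f ∈ F, (∀ x ∈ Z j, f * x = x * f) → f ∈ M := by
    intro f hf hx
    obtain ⟨x, hx1, hx2⟩ := SetLike.not_le_iff_exists.1 hne
    exact hNb x hx1 hx2 f hf (hx x hx1)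
  have hone : Swap.Fam.One F T (F ⊓ M) 𝓐 (W j) (fun _ : Unit => W j) (fun _ : Unit => Z j) :=
    { syl := hp.syl
      TF₀ := le_inf hp.syl.1 hTM
      F₀F := lt_of_le_of_ne inf_le_left fun e => hp.nM (inf_eq_left.1 e)
      max := fun K hTK hKF => le_inf hKF.le (hp.min K hTK hKF)
      fam := hfam _ hel hLF OmThm.XD.X_le_normalizer_W hLV
      nJ := hnJ
      ne := ⟨()⟩
      UO := hUO
      TU := c.TU
      comm := fun x hx y hy => SQ1.Bau.elem_comm hel x hx y hy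
      sq := fun x hx => by
        have := SQ1.Bau.elem_sq hel x hx
        rwa [pow_two] at this
      sup := by rw [iSup_const]
      H1 := fun _ f hf hx => ⟨hf, H1 f hf hx⟩
      H2 := fun X hX hXT _ => c.h2 (hA X hX hXT).1
      H3 := fun _ => c.h3 hO ((hp.syl.1).trans (le_normalizer_o2 F)) (exists_o h hp hne)
      H4 := le_inf inf_le_left h4 }
  exact hone.false_of_count (fun x _ hb f hf hfx => ⟨hf, hNb x hb.1 hb.2 f hf hfx⟩) hcost

end line

end Cfsg.Agent.Omega.OM.SWQ.CaseTwo
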