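import Cfsg.Agent.Omega.OM.SWQ.CaseOne
import Cfsg.Agent.Omega.OM.SWQ.CostTwo

/-!
# THEOREM SWQ (#21705), CASE II: `T` normalises all `Z i`, `q ≠ 4`

* `exists_ab` : the coordinates of `W i` for a 2-group `T ≤ S` which normalises `Z i`;
* `caseTwo` : the chosen pair does not exist if `q ≠ 4`.
-/

set_option autoImplicit false
set_option linter.unusedSectionVars false

namespace Cfsg.Agent.Omega.OM.SWQ

open Subgroup Cfsg Cfsg.Agent.ZN.ChoiceBase Cfsg.Agent.ZN.ChoiceSit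
open Cfsg.Agent.ZN (jj zj bau zc zl o2)
open Cfsg.Agent.Omega.FrameFF (cv)
open Cfsg.Agent.Omega.NO3S.OneLine (NatC)
open Cfsg.Agent.Omega.OM.Lev.Nat
open Cfsg.Agent.Omega.OM.SwapL (Ln BL ZL lb BM Pair Phi exists_pair exists_fam)
open Cfsg.Agent.Omega.OmThm

universe u

variable {G : Type u} [Group G] [Finite G] {S : Sylow 2 G} {P : Subgroup G} {n : ℕ}
  {K : Type} [Field K] [Finite K] [CharP K 2] {k : ℕ}
  {M : NatC K (S : Subgroup G) P (zl (S : Subgroup G) P) (cv (S : Subgroup G) P) k}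
  {L Z A : Fin k → Subgroup G} (D : DtL S P n M L Z A)

include D

/-- The coordinates of `W i`. -/
theorem exists_ab {T : Subgroup G} (hTS : T ≤ (S : Subgroup G)) (i : Fin k) (hT : ∀ t ∈ T, cj t (Z i) = Z i) :
    ∃ c : G → K × K, AB T (Wn M i) (Z i) c ∧
      ∀ l : K, ∃ b ∈ BL (S : Subgroup G) n, Act (Wn M i) c b 1 l := by
  obtain ⟨z₀, f₀, h⟩ := D.exists_md
  refine ⟨FourF.MD.co M.nat z₀ f₀ i, ⟨fun x hx y hy => D.ln.fr.Vc hx.1 hy.1, fun x hx => ?_,
    fun x hx y hy => h.co_mul hx.1 hy.1, h.co_surj i, fun w hw h0 => ?_, fun w => h.co_Z, fun t ht w hw => ?_,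
    fun t ht => ?_, S.isPGroup'.to_le hTS⟩, fun l => ?_⟩
  · rw [← pow_two]
    exact SQ1.Bau.elem_sq D.ln.fr.el x hx.1
  · refine h.co_inj hw (one_mem _) ?_
    have h1 := h.co_mul (i := i) (one_mem (zl (S : Subgroup G) P)) (one_mem _)
    rw [mul_one] at h1
    rw [h0, left_eq_add.1 h1]
  · exact (mem_normalizer_iff.1 (h.nW (hTS ht) (hT t ht)) w).1 hw
  · obtain ⟨s, l, hs⟩ := h.act (hTS ht) (hT t ht)
    exact ⟨s, l, fun w hw => hs w hw⟩
  · obtain ⟨b, hb, hc⟩ := h.full i l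
    exact ⟨b, hb, fun w hw => hc w hw⟩

/-- **CASE II.** -/
theorem caseTwo {X T F : Subgroup G} (s : Sel D X T F)
    (hD : centralizer (ZL (S : Subgroup G) n : Set G) ≤ X) (hN : normalizer (BL (S : Subgroup G) n : Set G) ≤ X)
    (hall : ∀ i, i ∈ Phi Z T) (hK : Nat.card K ≠ 4) : False := by
  classical
  have hp := s.pair
  have hZM : normalizer (ZL (S : Subgroup G) n : Set G) ≤ X := (lb S n).norm_zj_le.trans (sup_le hD hN)
  have hSM : (S : Subgroup G) ≤ X := ((lb S n).two_le S.isPGroup' (lb S n).BS).trans hN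
  have hTM : T ≤ X := s.TS.trans hSM
  have hO : o2 F ≤ T := o2_le_syl hp.syl
  have hTF : T ≤ F := hp.syl.1
  obtain ⟨𝓐, hfam, hnJ, hA⟩ := exists_fam D.ln hp hD hTM hZM
  -- an index on which `O₂(F)` acts nontrivially
  obtain ⟨j, o, ho, z, hz, hoz⟩ : ∃ j, ∃ o ∈ o2 F, ∃ z ∈ Z j, o * z ≠ z * o := by
    by_contra hcon
    push Not at hcon
    apply hp.nM
    have h1 : ZL (S : Subgroup G) n ≤ centralizer (F : Set G) := by
      intro x hx
      refine hp.fix ⟨hx, ?_⟩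
      have h2 : x ∈ ⨆ i ∈ (Finset.univ : Finset (Fin k)), Z i := by
        refine ModQ.W_inf_ZJ D.ln.fr _ x ?_ hx
        have h3 : x ∈ zl (S : Subgroup G) P := D.ln.fr.ZJV hx
        rw [D.ln.fr.V_eq] at h3
        have e : (⨆ i ∈ (Finset.univ : Finset (Fin k)), Wn M i) = ⨆ i, Wn M i := by simp
        rw [e]
        exact h3
      refine (iSup₂_le fun i _ y hy => ?_ : (⨆ i ∈ (Finset.univ : Finset (Fin k)), Z i) ≤
        centralizer (o2 F : Set G)) h2
      exact mem_centralizer_iff.2 fun o ho => hcon i o ho y hy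
    exact (le_centralizer_iff.1 h1).trans hD
  -- centralisers
  have hcen : ∀ x ∈ Z j, (∃ t ∈ T, t * x ≠ x * t) → ∀ f ∈ F, f * x = x * f → f ∈ X := by
    rintro x hx ⟨t, ht, htx⟩ f hf hfx
    refine s.cen2 hall ((ZL (S : Subgroup G) n ⊓ centralizer (T : Set G)) ⊔ zpowers x)
      (sup_le inf_le_left (by rw [zpowers_le]; exact D.ln.fr.Z_le j hx)) ?_ ?_
    · refine lt_of_le_of_ne le_sup_left fun e => htx ?_
      have h1 : x ∈ ZL (S : Subgroup G) n ⊓ centralizer (T : Set G) := by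
        rw [e]
        exact mem_sup_right (mem_zpowers x)
      exact mem_centralizer_iff.1 h1.2 t ht
    · have h1 : ((ZL (S : Subgroup G) n ⊓ centralizer (T : Set G)) ⊔ zpowers x : Subgroup G) ≤
          centralizer ({f} : Set G) := by
        refine sup_le (fun y hy => ?_) ?_
        · rw [mem_centralizer_singleton_iff]
          have h2 : y ∈ centralizer (F : Set G) :=
            hp.fix ⟨hy.1, centralizer_le (by exact_mod_cast hO) hy.2⟩
          exact (mem_centralizer_iff.1 h2 f hf).symm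
        · rw [zpowers_le, mem_centralizer_singleton_iff]
          exact hfx.symm
      exact mem_centralizer_iff.2 fun y hy => mem_centralizer_singleton_iff.1 (h1 hy)
  have hcZ : ∀ f ∈ F, (∀ x ∈ Z j, f * x = x * f) → f ∈ X := fun f hf h1 =>
    hcen z hz ⟨o, hO ho, hoz⟩ f hf (h1 z hz)
  -- the coordinates
  obtain ⟨c, hab, hfull⟩ := exists_ab D s.TS j (hall j)
  have hfull' : ∀ l : K, ∃ t ∈ T, Act (Wn M j) c t 1 l := fun l => by
    obtain ⟨b, hb, h1⟩ := hfull l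
    exact ⟨b, hp.BT hb, h1⟩
  have hOT : ∀ t ∈ T, ∀ o ∈ o2 F, t * o * t⁻¹ ∈ o2 F := fun t ht o ho =>
    (mem_normalizer_iff.1 (le_normalizer_o2 F (hTF ht)) o).1 ho
  have hmov : ∃ o ∈ o2 F, ∃ z ∈ Z j, o * z ≠ z * o := ⟨o, ho, z, hz, hoz⟩
  have hmovT : ∃ t ∈ T, ∃ z ∈ Z j, t * z ≠ z * t := ⟨o, hO ho, z, hz, hoz⟩
  -- the situation
  have hWV : Wn M j ≤ zl (S : Subgroup G) P := D.ln.fr.WV j
  have hVel := lam D hp
  have hLV : NoFF.Basic.V (Wn M j) F ≤ NoFF.Basic.V (zl (S : Subgroup G) P) F :=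
    NoFF.Basic.V_le fun f hf => (cj_mono f hWV).trans (NoFF.Basic.Z_le_V hf)
  have hΛ : IsElementaryAbelian 2 (NoFF.Basic.V (Wn M j) F) := Swap.elab_mono hVel hLV
  have hUF : Wn M j ≤ F := hWV.trans (hp.VO.trans (o2_le F))
  have hOne : Swap.Fam.One F T (F ⊓ X) 𝓐 (Wn M j) (fun _ : Unit => Wn M j) (fun _ : Unit => Z j) :=
    { syl := hp.syl
      TF₀ := le_inf hTF hTM
      F₀F := lt_of_le_of_ne inf_le_left fun e => hp.nM (inf_eq_left.1 e)
      max := fun K hTK hKF => le_inf hKF.le (hp.min K hTK hKF)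
      fam := hfam _ hΛ (NoFF.Basic.V_le fun f hf => by
        have := cj_mono f hUF
        rwa [cj_eq_of_mem_normalizer (le_normalizer hf)] at this) OmThm.XD.X_le_normalizer_W hLV
      nJ := hnJ
      ne := ⟨()⟩
      UO := hWV.trans hp.VO
      TU := fun t ht => by
        rw [mem_normalizer_iff_cj]
        exact D.W_cj (s.TS ht) (hall j t ht)
      comm := Swap.elab_comm hΛ
      sq := Swap.elab_sq hΛ
      sup := (iSup_const (ι := Unit)).symm
      H1 := fun _ f hf hfz => ⟨hf, hcZ f hf hfz⟩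
      H2 := fun E hE hET _ => by
        obtain ⟨hEB, h1 | hbest⟩ := hA E hE hET
        · exact Or.inl fun a ha x hx => h1 a ha x (hWV hx)
        · exact HThree.h2 D.ln.fr hEB hbest j
      H3 := fun _ => hab.h3 hO hOT hfull' hmov
      H4 := by
        rintro f ⟨hf, hfU⟩
        refine ⟨hf, ?_⟩
        have h1 := hab.h4 hO hOT hfull' hmov hK (f := f)
          (fun o ho => (mem_normalizer_iff.1 (le_normalizer_o2 F hf) o).1 ho) hfU
        refine SwapL.mem_of_cj_B_le S hSM hN (n := n) ?_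
        rintro _ ⟨b, hb, rfl⟩
        have hbF : b ∈ F := hTF (hp.BT hb)
        refine hcZ _ (mul_mem (mul_mem hf hbF) (inv_mem hf)) fun x hx => ?_
        rw [← h1] at hx
        obtain ⟨y, hy, rfl⟩ := hx
        have h2 := D.cB hb (D.ln.fr.Z_le j hy)
        show f * b * f⁻¹ * (f * y * f⁻¹) = f * y * f⁻¹ * (f * b * f⁻¹)
        have e1 : f * b * f⁻¹ * (f * y * f⁻¹) = f * (b * y) * f⁻¹ := by group
        have e2 : f * y * f⁻¹ * (f * b * f⁻¹) = f * (y * b) * f⁻¹ := by group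
        rw [e1, e2, h2] }
  refine hOne.false_of_count ?_ (hab.cost_two hmovT hK)
  rintro x - ⟨hx, hxt⟩ f hf hfx
  exact ⟨hf, hcen x hx hxt f hf hfx⟩

end Cfsg.Agent.Omega.OM.SWQ
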