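import Cfsg.Agent.Omega.FFThmM
import Cfsg.Agent.ZN.ChoiceBase

/-!
# THEOREM SWQ (#21705), CASE I: (H5)

`U = ∏ V i`, `E` permutes the `V i`, acts on `U` as an elementary abelian group, quadratically, and `[U, E]` contains no
element `≠ 1` of a `V i`. Then the orbits of `E` on the `V i` have length at most two and the elements of `E` which fix
`V i` centralise it: `|E : C_E(U)| = 2^m`, `|U : C_U(E)| ≥ c^m` if `|V i| ≥ c` (`H5.main`); for `c = 16`:
`E` centralises `U` or `2 |E : C_E(U)|³ ≤ |U : C_U(E)|` (`H5.h5`).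
-/

set_option autoImplicit false

namespace Cfsg.Agent.Omega.OM.SWQ

open Subgroup Cfsg Cfsg.Agent.ZN Cfsg.Agent.ZN.ChoiceBase
open Cfsg.Agent.Omega.FFThm (ElemM)
open scoped Pointwise commutatorElement

universe u

variable {G : Type u} [Group G] {ι : Type*} {U E : Subgroup G} {V : ι → Subgroup G}

/-- The hypotheses of (H5) in CASE I. -/
structure H5 (U : Subgroup G) (V : ι → Subgroup G) (E : Subgroup G) : Prop where
  sup : U = ⨆ i, V i
  ab : ∀ x ∈ U, ∀ y ∈ U, x * y = y * x
  sq : ∀ x ∈ U, x * x = 1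
  ind : ∀ i, ∀ x ∈ V i, x ∈ (⨆ j, ⨆ _ : j ≠ i, V j) → x = 1
  perm : ∀ e ∈ E, ∀ i, ∃ j, cj e (V i) = V j
  elem : ElemM U E
  quad : ∀ a ∈ E, ∀ b ∈ E, ∀ x ∈ U, a * (b * x * b⁻¹ * x⁻¹) * a⁻¹ = b * x * b⁻¹ * x⁻¹
  bad : ∀ i, ∀ x ∈ V i, x ∈ ⁅U, E⁆ → x = 1

namespace H5

theorem mono {D : Subgroup G} (h : H5 U V E) (hD : D ≤ E) : H5 U V D where
  sup := h.sup
  ab := h.ab
  sq := h.sq
  ind := h.ind
  perm := fun e he => h.perm e (hD he)
  elem := ⟨fun a ha => h.elem.sq a (hD ha), fun a ha b hb => h.elem.comm a (hD ha) b (hD hb)⟩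
  quad := fun a ha b hb => h.quad a (hD ha) b (hD hb)
  bad := fun i x hx hx' => h.bad i x hx (commutator_mono le_rfl hD hx')

theorem V_le (h : H5 U V E) (i : ι) : V i ≤ U := by
  rw [h.sup]
  exact le_iSup V i

theorem comm_mem {e x : G} (he : e ∈ E) (hx : x ∈ U) : e * x * e⁻¹ * x⁻¹ ∈ ⁅U, E⁆ := by
  rw [commutator_comm]
  exact commutator_mem_commutator he hx

/-- An element of `E` which fixes `V i` centralises it. -/
theorem cent_of_fix (h : H5 U V E) {e : G} (he : e ∈ E) {i : ι} (hi : cj e (V i) = V i) {x : G} (hx : x ∈ V i) :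
    e * x = x * e := by
  have h1 : e * x * e⁻¹ ∈ V i := by
    rw [← hi]
    exact ⟨x, hx, rfl⟩
  have h2 := h.bad i (e * x * e⁻¹ * x⁻¹) (mul_mem h1 (inv_mem hx)) (comm_mem he (h.V_le i hx))
  exact mul_inv_eq_iff_eq_mul.1 (mul_inv_eq_one.1 h2)

/-- Different components meet trivially. -/
theorem disj (h : H5 U V E) {i j : ι} (hij : V i ≠ V j) {x : G} (hx : x ∈ V i) (hx' : x ∈ V j) : x = 1 := by
  refine h.ind i x hx ?_
  have hji : j ≠ i := fun e => hij (by rw [e])
  have hle : V j ≤ ⨆ j, ⨆ _ : j ≠ i, V j := le_iSup_of_le j (le_iSup_of_le hji le_rfl)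
  exact hle hx'

/-- Orbits have length at most two. -/
theorem two (h : H5 U V E) {e f : G} (he : e ∈ E) (hf : f ∈ E) {i : ι} (hne : ∃ x ∈ V i, x ≠ 1)
    (h1 : cj e (V i) ≠ V i) (h2 : cj f (V i) ≠ V i) : cj e (V i) = cj f (V i) := by
  by_contra h3
  obtain ⟨x, hx, hx1⟩ := hne
  have hxU := h.V_le i hx
  obtain ⟨je, hje⟩ := h.perm e he i
  obtain ⟨jf, hjf⟩ := h.perm f hf i
  obtain ⟨jef, hjef⟩ := h.perm (e * f) (mul_mem he hf) i
  -- `e f` moves `V i`
  have h4 : cj (e * f) (V i) ≠ V i := by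
    intro h4
    apply h3
    have h5 : cj (e * e) (V i) = V i := by
      have h6 : ∀ x ∈ V i, (e * e) * x * (e * e)⁻¹ = x := fun x hx => by
        have h7 := mem_centralizer_iff.1 (h.elem.sq e he) x (h.V_le i hx)
        rw [pow_two] at h7
        rw [← h7]
        group
      apply le_antisymm
      · rintro _ ⟨y, hy, rfl⟩
        show (e * e) * y * (e * e)⁻¹ ∈ V i
        rw [h6 y hy]
        exact hy
      · intro y hy
        rw [mem_cj]
        have h7 := h6 y hy
        have h8 : (e * e)⁻¹ * y * (e * e) = y := by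
          have := congrArg (fun t => (e * e)⁻¹ * t * (e * e)) h7
          have e1 : (e * e)⁻¹ * (e * e * y * (e * e)⁻¹) * (e * e) = y := by group
          rw [e1] at this
          exact this.symm
        rw [h8]
        exact hy
    -- `cj f (V i) = cj e⁻¹ (V i) = cj e (V i)`
    rw [← cj_cj] at h4 h5
    have h8 : cj f (V i) = cj e (V i) := by
      have h9 := congrArg (cj e⁻¹) (h4.trans h5.symm)
      rwa [cj_inv_cj, cj_inv_cj] at h9
    exact h8.symm
  apply hx1
  refine h.ind i x hx ?_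
  -- `x = (e x e⁻¹) (f x f⁻¹) (ef x (ef)⁻¹)`
  have hq := h.quad e he f hf x hxU
  have m1 : e * x * e⁻¹ ∈ V je := by rw [← hje]; exact ⟨x, hx, rfl⟩
  have m2 : f * x * f⁻¹ ∈ V jf := by rw [← hjf]; exact ⟨x, hx, rfl⟩
  have m3 : (e * f) * x * (e * f)⁻¹ ∈ V jef := by rw [← hjef]; exact ⟨x, hx, rfl⟩
  have n1 : je ≠ i := fun e' => h1 (by rw [hje, e'])
  have n2 : jf ≠ i := fun e' => h2 (by rw [hjf, e'])
  have n3 : jef ≠ i := fun e' => h4 (by rw [hjef, e'])
  have key : x = (f * x * f⁻¹) * ((e * f) * x * (e * f)⁻¹)⁻¹ * (e * x * e⁻¹) := by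
    -- `e (f x f⁻¹ x⁻¹) e⁻¹ = f x f⁻¹ x⁻¹`
    have e1 : e * (f * x * f⁻¹ * x⁻¹) * e⁻¹ = ((e * f) * x * (e * f)⁻¹) * (e * x * e⁻¹)⁻¹ := by group
    rw [e1] at hq
    have c1 := h.ab _ (h.V_le jf m2) _ (inv_mem (h.V_le jef m3))
    have e2 : x = (((e * f) * x * (e * f)⁻¹) * (e * x * e⁻¹)⁻¹)⁻¹ * (f * x * f⁻¹) := by
      rw [hq]; group
    have c2 := h.ab _ (h.V_le je m1) _ (inv_mem (h.V_le jef m3))
    have c3 := h.ab _ (mul_mem (inv_mem (h.V_le jef m3)) (h.V_le je m1)) _ (h.V_le jf m2)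
    calc x = (((e * f) * x * (e * f)⁻¹) * (e * x * e⁻¹)⁻¹)⁻¹ * (f * x * f⁻¹) := e2
      _ = ((e * x * e⁻¹) * ((e * f) * x * (e * f)⁻¹)⁻¹) * (f * x * f⁻¹) := by group
      _ = (((e * f) * x * (e * f)⁻¹)⁻¹ * (e * x * e⁻¹)) * (f * x * f⁻¹) := by rw [c2]
      _ = (f * x * f⁻¹) * (((e * f) * x * (e * f)⁻¹)⁻¹ * (e * x * e⁻¹)) := c3
      _ = _ := by group
  rw [key]
  have le : ∀ j, j ≠ i → V j ≤ ⨆ j, ⨆ _ : j ≠ i, V j := fun j hj => le_iSup_of_le j (le_iSup_of_le hj le_rfl)
  exact mul_mem (mul_mem (le _ n2 m2) (inv_mem (le _ n3 m3))) (le _ n1 m1)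

/-- The stabiliser of `V i` in `E`. -/
def st (E : Subgroup G) (X : Subgroup G) : Subgroup G := E ⊓ normalizer (X : Set G)

theorem mem_st {X : Subgroup G} {e : G} : e ∈ st E X ↔ e ∈ E ∧ cj e X = X := by
  rw [st, mem_inf, mem_normalizer_iff_cj]

variable [Finite G]

/-- **(H5), the count.** -/
theorem main {c : ℕ} (hc1 : 1 < c) : ∀ (n : ℕ) (E : Subgroup G), H5 U V E → (∀ i, c ≤ Nat.card (V i)) →
    Nat.card E ≤ n → ∃ m, (centralizer (U : Set G)).relIndex E = 2 ^ m ∧
      c ^ m * Nat.card ↥(U ⊓ centralizer (E : Set G)) ≤ Nat.card U := by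
  intro n
  induction n with
  | zero =>
    intro E _ _ h0
    exact absurd Nat.card_pos (not_lt.2 h0)
  | succ n ih =>
    intro E h hc hn
    by_cases hfix : ∀ e ∈ E, ∀ i, cj e (V i) = V i
    · refine ⟨0, ?_, ?_⟩
      · rw [pow_zero, relIndex_eq_one]
        intro e he
        rw [h.sup]
        have : (⨆ i, V i) ≤ centralizer ({e} : Set G) := iSup_le fun i x hx =>
          mem_centralizer_singleton_iff.2 (h.cent_of_fix he (hfix e he i) hx).symm
        exact mem_centralizer_iff.2 fun x hx => mem_centralizer_singleton_iff.1 (this hx)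
      · rw [pow_zero, one_mul]
        exact Subgroup.card_le_of_le inf_le_left
    · push Not at hfix
      obtain ⟨e, he, i, hi⟩ := hfix
      have hne : ∃ x ∈ V i, x ≠ 1 := by
        have h1 : 1 < Nat.card (V i) := lt_of_lt_of_le hc1 (hc i)
        have : Nontrivial (V i) := Finite.one_lt_card_iff_nontrivial.1 h1
        obtain ⟨z, hz⟩ := exists_ne (1 : V i)
        exact ⟨z, z.2, fun h => hz (Subtype.ext h)⟩
      set D : Subgroup G := st E (V i) with hD
      have hDE : D ≤ E := inf_le_left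
      have heD : e ∉ D := fun h1 => hi (mem_st.1 h1).2
      have hlt : Nat.card D < Nat.card E := by
        rcases (Subgroup.card_le_of_le hDE).lt_or_eq with h1 | h1
        · exact h1
        · exact absurd (Subgroup.eq_of_le_of_card_ge hDE h1.ge ▸ he) heD
      obtain ⟨m, h1, h2⟩ := ih D (h.mono hDE) hc (by omega)
      have hindex : D.relIndex E = 2 := by
        rw [relIndex_eq_two_iff]
        refine ⟨e, he, fun f hf => ?_⟩
        by_cases hfD : f ∈ D
        · refine Or.inr ⟨hfD, fun h3 => heD ?_⟩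
          exact (Subgroup.mul_mem_cancel_left D hfD).1 h3
        · refine Or.inl ⟨?_, hfD⟩
          -- `f e` fixes `V i`
          have h3 : cj f (V i) ≠ V i := fun h3 => hfD (mem_st.2 ⟨hf, h3⟩)
          rw [mem_st]
          refine ⟨mul_mem hf he, ?_⟩
          by_contra h4
          -- `f⁻¹` also moves `V i`
          have h5 : cj f⁻¹ (V i) ≠ V i := fun h5 => h3 (by
            have := congrArg (cj f) h5
            rw [cj_cj_inv] at this
            exact this.symm)
          have h6 := h.two he (inv_mem hf) hne hi h5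
          apply h4
          rw [← cj_cj, h6, cj_cj_inv]
      refine ⟨m + 1, ?_, ?_⟩
      · have h3 : centralizer (U : Set G) ⊓ E ≤ D := by
          rintro f ⟨hf, hfE⟩
          rw [mem_st]
          refine ⟨hfE, ?_⟩
          have h4 : ∀ x ∈ V i, f * x * f⁻¹ = x := fun x hx => by
            rw [← mem_centralizer_iff.1 hf x (h.V_le i hx)]
            group
          apply Subgroup.eq_of_le_of_card_ge
          · rintro _ ⟨y, hy, rfl⟩
            show f * y * f⁻¹ ∈ V i
            rw [h4 y hy]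
            exact hy
          · exact (card_cj f (V i)).ge
        have h5 : (centralizer (U : Set G)).relIndex D * D.relIndex E = (centralizer (U : Set G)).relIndex E := by
          have h6 := relIndex_mul_relIndex (centralizer (U : Set G) ⊓ E) D E h3 hDE
          rw [inf_relIndex_right] at h6
          rw [← h6]
          congr 1
          rw [← inf_relIndex_right (centralizer (U : Set G)) D, ← inf_relIndex_right (centralizer (U : Set G) ⊓ E) D]
          congr 1
          rw [inf_assoc, inf_eq_right.2 hDE]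
        rw [← h5, h1, hindex, pow_succ]
      · -- `|C_U(D)| ≥ |V i| |C_U(E)|`
        have h3 : V i ⊔ (U ⊓ centralizer (E : Set G)) ≤ U ⊓ centralizer (D : Set G) := by
          refine sup_le (le_inf (h.V_le i) fun x hx => ?_) (inf_le_inf_left _ (centralizer_le hDE))
          exact mem_centralizer_iff.2 fun d hd => h.cent_of_fix (hDE hd) (mem_st.1 hd).2 hx
        have h4 : V i ⊓ (U ⊓ centralizer (E : Set G)) = ⊥ := by
          rw [eq_bot_iff]
          rintro x ⟨hx, -, hx'⟩
          rw [mem_bot]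
          obtain ⟨j, hj⟩ := h.perm e he i
          have h5 : V i ≠ V j := fun h5 => hi (hj.trans h5.symm)
          refine h.disj h5 hx ?_
          rw [← hj]
          refine ⟨x, hx, ?_⟩
          show e * x * e⁻¹ = x
          rw [mem_centralizer_iff.1 hx' e he]
          group
        have h5 : V i ≤ centralizer ((U ⊓ centralizer (E : Set G) : Subgroup G) : Set G) := fun x hx =>
          mem_centralizer_iff.2 fun y hy => h.ab y hy.1 x (h.V_le i hx)
        have h6 := Cfsg.Agent.PLocal.ElemAbSup.card_sup_mul_card_inf (le_centralizer_iff.1 h5)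
        rw [h4, Subgroup.card_bot, mul_one] at h6
        have h7 := Subgroup.card_le_of_le h3
        rw [h6] at h7
        calc c ^ (m + 1) * Nat.card ↥(U ⊓ centralizer (E : Set G))
            = c ^ m * (c * Nat.card ↥(U ⊓ centralizer (E : Set G))) := by ring
          _ ≤ c ^ m * (Nat.card (V i) * Nat.card ↥(U ⊓ centralizer (E : Set G))) :=
              Nat.mul_le_mul_left _ (Nat.mul_le_mul_right _ (hc i))
          _ ≤ c ^ m * Nat.card ↥(U ⊓ centralizer (D : Set G)) := Nat.mul_le_mul_left _ h7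
          _ ≤ Nat.card U := h2

/-- **(H5).** -/
theorem h5 (h : H5 U V E) (hc : ∀ i, 16 ≤ Nat.card (V i)) :
    E ≤ centralizer (U : Set G) ∨
      2 * (centralizer (U : Set G)).relIndex E ^ 3 ≤ (centralizer (E : Set G)).relIndex U := by
  obtain ⟨m, h1, h2⟩ := main (by norm_num) _ E h hc le_rfl
  rcases Nat.eq_zero_or_pos m with rfl | hm
  · left
    rw [pow_zero, relIndex_eq_one] at h1
    exact h1
  · right
    have h3 : Nat.card ↥(U ⊓ centralizer (E : Set G)) * (centralizer (E : Set G)).relIndex U = Nat.card U := by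
      have h4 := relIndex_mul_relIndex ⊥ (centralizer (E : Set G) ⊓ U) U bot_le inf_le_right
      rw [relIndex_bot_left, relIndex_bot_left, inf_relIndex_right] at h4
      rw [inf_comm]
      exact h4
    have h4 : 0 < Nat.card ↥(U ⊓ centralizer (E : Set G)) := Nat.card_pos
    have h5 : 16 ^ m ≤ (centralizer (E : Set G)).relIndex U := by
      rw [← h3, mul_comm] at h2
      exact Nat.le_of_mul_le_mul_left h2 h4
    rw [h1]
    refine le_trans ?_ h5
    obtain ⟨l, rfl⟩ : ∃ l, m = l + 1 := ⟨m - 1, by omega⟩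
    calc 2 * (2 ^ (l + 1)) ^ 3 = 2 * (2 ^ 3) ^ (l + 1) := by rw [← pow_mul, ← pow_mul, mul_comm (l + 1) 3]
      _ = 16 * 8 ^ l := by norm_num [pow_succ]; ring
      _ ≤ 16 * 16 ^ l := Nat.mul_le_mul_left _ (Nat.pow_le_pow_left (by norm_num) l)
      _ = 16 ^ (l + 1) := by rw [pow_succ]; ring

end H5

end Cfsg.Agent.Omega.OM.SWQ
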