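import Cfsg.Agent.Omega.OM.SWQ.CaseTwoD
import Cfsg.Agent.Omega.OM.SwapL.BG
import Cfsg.Agent.Omega.OM.Lev.Low.LowMain
import Cfsg.Agent.Omega.Node.MultiOf

/-!
# THEOREM SWQ (#21705): (Om) at the levels is impossible for `q ≥ 4`

* `le_of_char2` : every subgroup of characteristic 2 over `B` is contained in every
  `X ≥ C_G(Z_J), L_i, N_G(B)`; for `q = 4` modulo the conclusion of (4F);
* `FourLev` : (4F) at the levels; `nloc_q`; `omLev_big` : `OmLev K (4 < q)`; `omLev_q : FourLev → OmLev K (4 ≤ q)`.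
-/

set_option autoImplicit false
set_option linter.unusedSectionVars false

namespace Cfsg.Agent.Omega.OM.SWQ

open Subgroup Cfsg Cfsg.Agent.ZN.ChoiceBase Cfsg.Agent.ZN.ChoiceSit
open Cfsg.Agent.ZN (jj zj bau zc zl o2)
open Cfsg.Agent.Omega.FFThm (NatK NatKM)
open Cfsg.Agent.Omega.FrameFF (cv)
open Cfsg.Agent.Omega.Frame (Cls)
open Cfsg.Agent.Omega.NO3S (HypN HypL)
open Cfsg.Agent.Omega.NO3S.OneLine (NatC)
open Cfsg.Agent.Omega.NO3S.Level (lev)
open Cfsg.Agent.Omega.OM.Lev.Nat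
open Cfsg.Agent.Omega.OM.LevD (K0 Fam)
open Cfsg.Agent.Omega.OM.SwapL (Ln BL ZL lb BM BG Pair Phi)
open Cfsg.Agent.Omega.Node.MultiOf (FBl KZ NLoc OmLev)

universe u

section

variable {G : Type u} [Group G] [Finite G] {S : Sylow 2 G} {P : Subgroup G} {n : ℕ}
  {K : Type} [Field K] [Finite K] [CharP K 2] {k : ℕ}
  {M : NatC K (S : Subgroup G) P (zl (S : Subgroup G) P) (cv (S : Subgroup G) P) k}
  {L Z A : Fin k → Subgroup G} (D : DtL S P n M L Z A)

include D

/-- **THEOREM SWQ.** -/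
theorem le_of_char2 {X H : Subgroup G} (hBM : BM S n X) (hLM : ∀ i, L i ≤ X)
    (hD : centralizer (ZL (S : Subgroup G) n : Set G) ≤ X) (hN : normalizer (BL (S : Subgroup G) n : Set G) ≤ X)
    (hK : 4 ≤ Nat.card K)
    (h4 : Nat.card K = 4 → ∀ T F : Subgroup G, Sel D X T F → (∀ i, i ∈ Phi Z T) → False)
    (hB : BL (S : Subgroup G) n ≤ H) (hc : H ⊓ centralizer (o2 H : Set G) ≤ o2 H) : H ≤ X := by
  by_contra hM
  obtain ⟨T, F, s⟩ := exists_sel D hBM hD hN hB hc hM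
  have hall := phi_univ D s hLM hD hN hK
  by_cases hq : Nat.card K = 4
  · exact h4 hq T F s hall
  · exact caseTwo D s hD hN hall hq

/-- **(Om) is impossible at stage `n`, `q ≥ 4`.** -/
theorem noOm (hn1 : ¬ lev (S : Subgroup G) (n + 1) ≤ o2 P)
    (hF : Fam (BL (S : Subgroup G) n) (ZL (S : Subgroup G) n) (FBl (BL (S : Subgroup G) n)))
    (hL : ∀ i, L i ≤ KZ (BL (S : Subgroup G) n) (ZL (S : Subgroup G) n)) (hK : 4 ≤ Nat.card K)
    (h4 : Nat.card K = 4 → ∀ X T Y : Subgroup G, Sel D X T Y → P ≤ X →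
      centralizer (ZL (S : Subgroup G) n : Set G) ≤ X → normalizer (BL (S : Subgroup G) n : Set G) ≤ X →
        (∀ i, i ∈ Phi Z T) → False) : NLoc (KZ (BL (S : Subgroup G) n) (ZL (S : Subgroup G) n)) := by
  have h := D.ln
  have hBG : BG S n (FBl (BL (S : Subgroup G) n)) := Lev.Low.bg_four h (by omega) fun _ _ h1 => ⟨h1.fb, h1.blk⟩
  by_contra hcon
  unfold NLoc at hcon
  push Not at hcon
  obtain ⟨R, hR, hRn, hR1⟩ := hcon
  obtain ⟨ho, hoB, hle⟩ := hF.dich (lb S n) hR hR1 hRn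
  set O : Subgroup G := o2 (K0 (ZL (S : Subgroup G) n) (FBl (BL (S : Subgroup G) n))) with hO
  set X : Subgroup G := normalizer (O : Set G) with hX
  have hKX : K0 (ZL (S : Subgroup G) n) (FBl (BL (S : Subgroup G) n)) ≤ X := le_sup_left.trans hle
  have hN : normalizer (BL (S : Subgroup G) n : Set G) ≤ X := le_sup_right.trans hle
  have hSX : (S : Subgroup G) ≤ X := ((lb S n).two_le S.isPGroup' (lb S n).BS).trans hN
  have hBM : BM S n X := hBG.bm hKX hN
  have hLX : ∀ i, L i ≤ X := fun i => (hL i).trans hKX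
  have hDX : centralizer (ZL (S : Subgroup G) n : Set G) ≤ X := LevD.cent_le_K0.trans hKX
  have hS1 : (S : Subgroup G) ≠ ⊥ := h.hyp.ctx.sylow_ne_bot S
  have h1 := MinPar.isLoc_centralizer_zc S hS1
  have hP : P ≤ X := by
    have h3 := hBG S P h.hyp.toHyp.syl (lb S n).BS h.hyp.star.toIsMinPar
      (h.hyp.star.isLoc.char2 S h.hyp.ctx.char2) hn1
      (fun hc => h.hyp.star.not_zc (hc.trans (centralizer_le_normalizer _)))
    exact h3.trans (sup_le hKX hSX)
  have h2 : FrameNOFF.CZ (S : Subgroup G) ≤ X :=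
    le_of_char2 D hBM hLX hDX hN hK (fun hq T Y s h3 => h4 hq X T Y s hP hDX hN h3) ((lb S n).BS.trans h1.le)
      (h1.char2 S h.hyp.ctx.char2)
  exact ho (h.hyp.nonLoc _ (isPGroup_o2 _) hP h2)

end

/-- **(4F) at the levels.** -/
def FourLev : Prop :=
  ∀ (G : Type u) [Group G] [Finite G] (S : Sylow 2 G) (P : Subgroup G) (n k : ℕ) (K : Type) [Field K] [Finite K]
    [CharP K 2] (M : NatC K (S : Subgroup G) P (zl (S : Subgroup G) P) (cv (S : Subgroup G) P) k)
    (L Z A : Fin k → Subgroup G) (D : DtL S P n M L Z A), Nat.card K = 4 → ∀ X T Y : Subgroup G, Sel D X T Y →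
      P ≤ X → centralizer (ZL (S : Subgroup G) n : Set G) ≤ X →
        normalizer (BL (S : Subgroup G) n : Set G) ≤ X → (∀ i, i ∈ Phi Z T) → False

theorem nloc_q {G : Type u} [Group G] [Finite G] {S : Sylow 2 G} {P : Subgroup G} {k : ℕ} (h : HypL S P) {n : ℕ}
    (hall : ∀ R, MinPar.IsParS (S : Subgroup G) R → lev (S : Subgroup G) n ≤ o2 R)
    (hn1 : ¬ lev (S : Subgroup G) (n + 1) ≤ o2 P) (hk : 2 ≤ k)
    {F : Type} [Field F] [Finite F] [CharP F 2] (hF : 4 ≤ Nat.card F)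
    (hf : Nat.card F = 4 → FourLev.{u})
    (N : NatKM F (S : Subgroup G) P (zl (S : Subgroup G) P) (cv (S : Subgroup G) P) k) :
    NLoc (KZ (BL (S : Subgroup G) n) (ZL (S : Subgroup G) n)) := by
  obtain ⟨M, L, Z, A, -, D⟩ := exists_dtl h.toHypN (hall P h.star) hn1 hk N
  have hm : Node.MultiOf.Mul S P (lev (S : Subgroup G) (n + 1)) (BL (S : Subgroup G) n) (ZL (S : Subgroup G) n)
      L _ Z _ (Nat.card F) :=
    ⟨h, Node.MultiOf.StgP.lev n hall (hall P h.star) hn1, D.bg, F, inferInstance, inferInstance, inferInstance, rfl,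
      ⟨N⟩⟩
  exact noOm D hn1 hm.fam hm.L_le hF fun hq X T Y s h1 h2 h3 h4 =>
    hf hq G S P n k F M L Z A D hq X T Y s h1 h2 h3 h4

/-- **(Om), stage `n`, `q > 4`.** -/
theorem omLev_big {K : Cls.{u}} : OmLev K fun _ q => 4 < q := by
  intro G _ _ hK S P k h n hall hn1 hk F _ _ _ hF N B ZJ hZJ hB ho
  subst hZJ hB
  exact absurd (nloc_q h hall hn1 hk hF.le (fun e => absurd e (by omega)) N _ (isPGroup_o2 _)
    (le_normalizer_o2 _)) ho

/-- **(Om), stage `n`, `q ≥ 4`**, modulo (4F) at the levels. -/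
theorem omLev_q {K : Cls.{u}} (hf : FourLev.{u}) : OmLev K fun _ q => 4 ≤ q := by
  intro G _ _ hK S P k h n hall hn1 hk F _ _ _ hF N B ZJ hZJ hB ho
  subst hZJ hB
  exact absurd (nloc_q h hall hn1 hk hF (fun _ => hf) N _ (isPGroup_o2 _) (le_normalizer_o2 _)) ho

end Cfsg.Agent.Omega.OM.SWQ
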