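import Cfsg.Agent.Omega.OM.SWQ.Main
import Cfsg.Agent.Omega.OM.SWQ.CaseFour

/-!
# Theorem SWQ: (Om) at the stages `n ≥ 0`, `q ≥ 4`

* `fourLev : FourLev`: (4F) at the levels;
* `omLev : OmLev K (fun _ q => 4 ≤ q)`.
-/

set_option autoImplicit false

namespace Cfsg.Agent.Omega.OM.SWQ

open Subgroup Cfsg
open Cfsg.Agent.Omega.Frame (Cls)
open Cfsg.Agent.Omega.Node.MultiOf (OmLev)

universe u

/-- **(4F) at the levels.** -/
theorem fourLev : FourLev.{u} := by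
  intro G _ _ S P n k K _ _ _ M L Z A D hq X T Y hs hP hD hN hPhi
  exact D.case_four hs (fun i l hl => hP (D.LX i hl).1) hD hN hPhi hq

/-- **(Om), stage `n`, `q ≥ 4`.** -/
theorem omLev {K : Cls.{u}} : OmLev K fun _ q => 4 ≤ q :=
  omLev_q fourLev

end Cfsg.Agent.Omega.OM.SWQ
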