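import Cfsg.Agent.Omega.OM.SWQ.CaseTwoD
import Cfsg.Agent.Omega.OM.Lev.Low.LowMain
import Cfsg.Agent.Omega.TC.UniLev

/-!
# TI at the levels `n ≥ 0`, `|F| ≠ 4`

CASE II of THEOREM SWQ uses only `C_G(Z_J), N_G(B) ≤ X`.

* `exists_idx` : `q > 2`: a minimal parabolic over `T ≥ B` which moves `Ω₁Z(T)` is `⟨T, L'⟩`, `L'` a block of index `m`;
* `DtL.tiAll` : `Y ≤ Z_J` meets all `Z i` nontrivially: `C_G(Y) ≤ X` for every `X ≥ C_G(Z_J), N_G(B)`;
  `DtL.tiAll'` : `C_G(Y) ≤ N_G(Z_J)`;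
* `DtL.tiL` : `i ≠ j`, `1 ≠ z ∈ Z i`: `C_G(z) ∩ ⋂ C_G(Z l) ≤ N_G(Z i)` (`l ≠ i, j`);
* `DtL.ti_two` : `k = 2`: `TI (Z i)`.
-/

set_option autoImplicit false
set_option linter.unusedSectionVars false

namespace Cfsg.Agent.Omega.OM.SWQ

open Subgroup Cfsg Cfsg.Agent.ZN.ChoiceBase Cfsg.Agent.ZN.ChoiceSit
open Cfsg.Agent.ZN (jj zj bau zc zl o2)
open Cfsg.Agent.MinSimple.MinParabolic (IsMinPar)
open Cfsg.Agent.MinSimple.VModule (oddGen oddGen_le)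
open Cfsg.Agent.Omega.FrameFF (cv)
open Cfsg.Agent.Omega.NO3S.OneLine (NatC)
open Cfsg.Agent.Omega.NO3S.Level (lev)
open Cfsg.Agent.Omega.OM.Lev.Nat
open Cfsg.Agent.Omega.OM.LevD (LB K0)
open Cfsg.Agent.Omega.OM.SwapL (Ln BL ZL lb BM Pair Phi V_le_o2)
open Cfsg.Agent.Omega.Node.MultiOf (FBl)

universe u

variable {G : Type u} [Group G] [Finite G]

/-! ### Pairs inside `H` -/

section line

variable {ι : Type} [Finite ι] {S : Sylow 2 G} {P : Subgroup G} {n : ℕ} {L W Z C A : ι → Subgroup G} {q : ℕ}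

/-- `BM` inside `H`. -/
def BMin (S : Sylow 2 G) (n : ℕ) (M H : Subgroup G) : Prop :=
  ∀ T Y : Subgroup G, Syl T Y → BL (S : Subgroup G) n ≤ T → IsMinPar T Y → Y ≤ H →
    Y ⊓ centralizer (o2 Y : Set G) ≤ o2 Y → ¬ lev (S : Subgroup G) (n + 1) ≤ o2 Y →
    ¬ Y ≤ centralizer (zc T : Set G) → Y ≤ M

/-- **Existence of pairs** (`SwapL.exists_pair` with the block condition inside `H`). -/
theorem exists_pair_in (h : Ln S P n L W Z C A q) {M H : Subgroup G} (hBM : BMin S n M H)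
    (hD : centralizer (ZL (S : Subgroup G) n : Set G) ≤ M) (hN : normalizer (BL (S : Subgroup G) n : Set G) ≤ M)
    (hB : BL (S : Subgroup G) n ≤ H) (hc : H ⊓ centralizer (o2 H : Set G) ≤ o2 H) (hM : ¬ H ≤ M) :
    ∃ T F : Subgroup G, Pair S P n M T F ∧ F ≤ H := by
  have : Fact (Nat.Prime 2) := ⟨Nat.prime_two⟩
  obtain ⟨T₀, hT₀, hBT₀⟩ := exists_syl (lb S n).Bp hB
  have hK : K0 (ZL (S : Subgroup G) n) (fun _ _ => False) ≤ M := sup_le hD (iSup_le fun i => i.2.elim)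
  have hsylY : ∀ Y : Subgroup G, IsMinPar T₀ Y → Y ≤ H → Syl T₀ Y := fun Y hY hYH =>
    ⟨hY.le, hT₀.2.1, fun Q hQ h2 hTQ => hT₀.2.2 Q (hQ.trans hYH) h2 hTQ⟩
  have hcY' : ∀ Y : Subgroup G, IsMinPar T₀ Y → Y ≤ H → Y ⊓ centralizer (o2 Y : Set G) ≤ o2 Y := by
    intro Y hY hYH
    have h4 : o2 H ≤ o2 Y :=
      le_o2 (isPGroup_o2 H) ((o2_le_syl hT₀).trans hY.le) (hYH.trans (le_normalizer_o2 H))
    rintro x ⟨hx, hxc⟩
    exact h4 (hc ⟨hYH hx, centralizer_le (by exact_mod_cast h4) hxc⟩)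
  have hKT : lev (S : Subgroup G) (n + 1) ≤ T₀ := (lb S n).KB.trans hBT₀
  have hfix : ∀ Y : Subgroup G, IsMinPar T₀ Y → Y ≤ H → LevD.FixPt (lev (S : Subgroup G) (n + 1)) T₀ Y :=
    fun Y hY hYH => LevD.fixPt S (hsylY Y hY hYH) hKT hY
  have hg := LevB.genM (lb S n) hK hN hT₀ hBT₀ hc hfix
    fun Y hY hYH => hBM T₀ Y (hsylY Y hY hYH) hBT₀ hY hYH (hcY' Y hY hYH)
  -- the minimal parabolic `Y`
  obtain ⟨Y, ⟨hYm, hYH, hYK, hYc, -⟩, hYM⟩ : ∃ Y : Subgroup G, (IsMinPar T₀ Y ∧ Y ≤ H ∧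
      ¬ lev (S : Subgroup G) (n + 1) ≤ o2 Y ∧
      Y ≤ centralizer (zc T₀ : Set G) ∧ ¬ o2 Y ≤ BL (S : Subgroup G) n) ∧ ¬ Y ≤ M := by
    by_contra hcon
    push Not at hcon
    exact hM (hg.trans (sup_le inf_le_right (iSup_le fun Y => hcon Y.1 Y.2)))
  have hTM : T₀ ≤ M := ((lb S n).two_le hT₀.2.1 hBT₀).trans hN
  have hTY : Syl T₀ Y := hsylY Y hYm hYH
  have hcY := hcY' Y hYm hYH
  have hVY : zl (S : Subgroup G) P ≤ o2 Y := V_le_o2 h hT₀.2.1 hBT₀ hYm.le hYc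
  -- `Y₁ = O²(Y) O₂(Y) B`
  set Y₁ : Subgroup G := oddGen Y ⊔ (o2 Y ⊔ BL (S : Subgroup G) n) with hY₁
  have hY₁Y : Y₁ ≤ Y := sup_le (oddGen_le Y) (sup_le (o2_le Y) (hBT₀.trans hYm.le))
  have hOB : IsPGroup 2 (o2 Y ⊔ BL (S : Subgroup G) n : Subgroup G) :=
    hT₀.2.1.to_le (sup_le (o2_le_syl hTY) hBT₀)
  obtain ⟨T, hT, hOT⟩ := exists_syl hOB (le_sup_right : o2 Y ⊔ BL (S : Subgroup G) n ≤ Y₁)
  have hY₁M : ¬ Y₁ ≤ M := by
    intro hle
    apply hYM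
    rw [← Dich.oddGen_sup_syl hTY]
    exact sup_le (le_sup_left.trans hle) hTM
  obtain ⟨F, hF⟩ := (Set.toFinite {K : Subgroup G | T ≤ K ∧ K ≤ Y₁ ∧ ¬ K ≤ M}).exists_minimal
    ⟨Y₁, hT.1, le_rfl, hY₁M⟩
  obtain ⟨hTF, hFY₁, hFM⟩ := hF.prop
  have hFY : F ≤ Y := hFY₁.trans hY₁Y
  have hsyl : Syl T F := ⟨hTF, hT.2.1, fun Q hQ h2 hle => hT.2.2 Q (hQ.trans hFY₁) h2 hle⟩
  have hBT : BL (S : Subgroup G) n ≤ T := le_sup_right.trans hOT
  have hOF : o2 Y ≤ o2 F :=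
    le_o2 (isPGroup_o2 Y) ((le_sup_left.trans hOT).trans hTF) (hFY.trans (le_normalizer_o2 Y))
  refine ⟨T, F, ⟨hsyl, hBT, hFM, fun K hTK hKF => ?_, hVY.trans hOF, ?_⟩, hFY.trans hYH⟩
  · by_contra hKM
    exact hKF.not_ge (hF.le_of_le ⟨hTK, hKF.le.trans hFY₁, hKM⟩ hKF.le)
  · rintro z ⟨hz, hzc⟩
    have hzB : z ∈ BL (S : Subgroup G) n := (lb S n).ZB hz
    have hzO : ∀ y ∈ o2 Y, y * z = z * y := fun y hy => mem_centralizer_iff.1 hzc y (hOF hy)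
    have hz1 : z ∈ zc (o2 Y) := by
      refine mem_zc.2 ⟨hcY ⟨hYm.le (hBT₀ hzB), mem_centralizer_iff.2 hzO⟩, (lb S n).sq z hz, hzO⟩
    have hz2 : z ∈ centralizer (oddGen Y : Set G) := hfix Y hYm hYH hYK hYc hz1
    have hle : Y₁ ≤ centralizer ({z} : Set G) := by
      refine sup_le (fun y hy => ?_) (sup_le (fun y hy => ?_) fun y hy => ?_) <;>
        rw [mem_centralizer_singleton_iff]
      · exact mem_centralizer_iff.1 hz2 y hy
      · exact hzO y hy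
      · exact (mem_centralizer_iff.1 ((lb S n).Bc hy) z hz).symm
    rw [mem_centralizer_iff]
    intro y hy
    exact mem_centralizer_singleton_iff.1 (hle (hFY₁ hy))

/-- **A minimal parabolic over `T ≥ B` which moves `Ω₁Z(T)` is `⟨T, L'⟩`, `L'` a block of index `i`.** -/
theorem exists_idx (h : Ln S P n L W Z C A q) (hq : 2 < q) {T Y : Subgroup G} (hT : Syl T Y)
    (hB : BL (S : Subgroup G) n ≤ T) (hP : IsMinPar T Y) (hc : Y ⊓ centralizer (o2 Y : Set G) ≤ o2 Y)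
    (hn : ¬ lev (S : Subgroup G) (n + 1) ≤ o2 Y) (hZ : ¬ Y ≤ centralizer (zc T : Set G)) :
    ∃ L' : Subgroup G, L' ≤ Y ∧ Y ≤ T ⊔ L' ∧ ∃ i, ∀ z ∈ ZL (S : Subgroup G) n,
      z ∈ C i ↔ ∀ l ∈ L', l * z = z * l := by
  have hK := Lev.Low.low_four h hq hT hB hP hc hZ
  obtain ⟨L', V', h1, hF, hsup⟩ := LevB.exists_fblk S hT hB hP hc hK hn hZ
  obtain ⟨-, -, i, -, -, -, h2, -⟩ := TC.UniLev.uni_all S rfl rfl h.fr
    (⟨hF.fb, hF.blk⟩ : FBl (BL (S : Subgroup G) n) L' V')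
  exact ⟨L', h1, hsup, i, h2⟩

end line

variable {S : Sylow 2 G} {P : Subgroup G} {n : ℕ} {F : Type} [Field F] [Finite F]
  [CharP F 2] {k : ℕ} {M : NatC F (S : Subgroup G) P (zl (S : Subgroup G) P) (cv (S : Subgroup G) P) k}
  {L Z A : Fin k → Subgroup G} (D : DtL S P n M L Z A)

include D

namespace DtL

theorem not_mem_C {i : Fin k} {z : G} (hz : z ∈ Z i) (h1 : z ≠ 1) : z ∉ Cn M i := by
  intro hc
  have h2 : z ∈ Wn M i ⊓ Cn M i := mem_inf.2 ⟨D.Z_W i hz, hc⟩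
  rw [D.ln.fr.dir i, mem_bot] at h2
  exact h1 h2

theorem Z_C {i j : Fin k} (hij : i ≠ j) : Z j ≤ Cn M i := (D.Z_W j).trans (D.ln.fr.WjC i j hij)

/-- an element of `N_G(Z_J)` which centralises an element `≠ 1` of `Z i` normalises `Z i`. -/
theorem norm_of_comm {g : G} (hg : g ∈ normalizer (ZL (S : Subgroup G) n : Set G)) {i : Fin k} {z : G}
    (hz : z ∈ Z i) (h1 : z ≠ 1) (hc : g * z = z * g) : g ∈ normalizer (Z i : Set G) := by
  obtain ⟨d, hd, m, hm, rfl⟩ := (lb S n).exists_frattini hg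
  obtain ⟨j, hj, -⟩ := (D.ln.norm hm).2 i
  have h3 : m * z * m⁻¹ ∈ Z j := by rw [← hj]; exact ⟨z, hz, rfl⟩
  have h4 : d * (m * z * m⁻¹) = m * z * m⁻¹ * d :=
    (mem_centralizer_iff.1 hd _ (D.ln.fr.Z_le j h3)).symm
  have h5 : m * z * m⁻¹ = z := by
    have e1 : d * m * z * (d * m)⁻¹ = z := by rw [hc]; group
    have e2 : d * m * z * (d * m)⁻¹ = d * (m * z * m⁻¹) * d⁻¹ := by group
    rw [e2, h4] at e1
    have e3 : m * z * m⁻¹ * d * d⁻¹ = m * z * m⁻¹ := by group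
    rwa [e3] at e1
  have h6 : i = j := D.Z_inj hz (h5 ▸ h3) h1
  refine mul_mem ?_ (mem_normalizer_iff_cj.2 (by rw [hj, ← h6]))
  exact centralizer_le_normalizer _ (centralizer_le (by exact_mod_cast D.ln.fr.Z_le i) hd)

/-- 2-groups over `B` which centralise an element `≠ 1` of every `Z i` fix all indices. -/
theorem phi_of {T Y : Subgroup G} (hT : IsPGroup 2 T) (hB : BL (S : Subgroup G) n ≤ T)
    (hm : ∀ i, ∃ z ∈ Z i, z ≠ 1 ∧ z ∈ Y) (hTY : T ≤ centralizer (Y : Set G)) : ∀ i, i ∈ Phi Z T := by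
  intro i t ht
  obtain ⟨z, hz, h1, hzY⟩ := hm i
  exact D.fix_of_comm ((lb S n).two_le hT hB ht) hz h1 (mem_centralizer_iff.1 (hTY ht) z hzY).symm

/-- inside `C_G(Y)`, `Y` meeting all `Z i`, there are no blocks -/
theorem bmin (hq : 2 < Nat.card F) {X Y : Subgroup G} (hm : ∀ i, ∃ z ∈ Z i, z ≠ 1 ∧ z ∈ Y) :
    BMin S n X (centralizer (Y : Set G)) := by
  intro T R hT hB hP hRY hc hn hZ
  obtain ⟨L', h1, -, i, h2⟩ := exists_idx D.ln hq hT hB hP hc hn hZ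
  obtain ⟨z, hz, hz1, hzY⟩ := hm i
  refine absurd ((h2 z (D.ln.fr.Z_le i hz)).2 fun l hl => ?_) (D.not_mem_C hz hz1)
  exact (mem_centralizer_iff.1 (hRY (h1 hl)) z hzY).symm

/-- the chosen pair -/
theorem exists_sel_all (hq : 2 < Nat.card F) {X Y : Subgroup G} (hY : Y ≤ ZL (S : Subgroup G) n)
    (hm : ∀ i, ∃ z ∈ Z i, z ≠ 1 ∧ z ∈ Y)
    (hD : centralizer (ZL (S : Subgroup G) n : Set G) ≤ X) (hN : normalizer (BL (S : Subgroup G) n : Set G) ≤ X)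
    (hX : ¬ centralizer (Y : Set G) ≤ X) : ∃ T R : Subgroup G, Sel D X T R ∧ ∀ i, i ∈ Phi Z T := by
  classical
  set J : Subgroup G := ZL (S : Subgroup G) n with hJ
  have hJ2 : IsPGroup 2 J := (lb S n).Bp.to_le (lb S n).ZB
  have hle : ∀ T : Subgroup G, Nat.card ↥(J ⊓ centralizer (T : Set G)) ≤ Nat.card J := fun T =>
    Subgroup.card_le_of_le inf_le_left
  have hTN : ∀ T : Subgroup G, IsPGroup 2 T → BL (S : Subgroup G) n ≤ T →
      T ≤ normalizer (BL (S : Subgroup G) n : Set G) := fun T hT hB => (lb S n).two_le hT hB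
  -- the pair of a centraliser
  have key : ∀ Y : Subgroup G, Y ≤ J → (∀ i, ∃ z ∈ Z i, z ≠ 1 ∧ z ∈ Y) → ¬ centralizer (Y : Set G) ≤ X →
      ∃ T' F' : Subgroup G, (Pair S P n X T' F' ∧ ∀ i, i ∈ Phi Z T') ∧ T' ≤ centralizer (Y : Set G) := by
    intro Y hYJ hY1 hcon
    have hYne : Y ≠ ⊥ := by
      rintro rfl
      obtain ⟨z, hz, h1, h2⟩ := hY1 ⟨0, D.k_pos⟩
      exact h1 (mem_bot.1 h2)
    have hBY : BL (S : Subgroup G) n ≤ centralizer (Y : Set G) :=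
      (lb S n).Bc.trans (centralizer_le (by exact_mod_cast hYJ))
    obtain ⟨T', F', hp', hle'⟩ := exists_pair_in D.ln (D.bmin hq hY1) hD hN hBY
      (Swap.char2_cent D.ln.hyp.ctx.char2 (hJ2.to_le hYJ) hYne) hcon
    have hT'Y := hp'.syl.1.trans hle'
    exact ⟨T', F', ⟨hp', D.phi_of hp'.syl.2.1 hp'.BT hY1 hT'Y⟩, hT'Y⟩
  let μ : Subgroup G → ℕ := fun T => Nat.card ↥(J ⊓ centralizer (T : Set G))
  let s : Set ℕ := {m | ∃ T F : Subgroup G, (Pair S P n X T F ∧ ∀ i, i ∈ Phi Z T) ∧ μ T = m}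
  have hs1 : s.Nonempty := by
    obtain ⟨T, F, hp, -⟩ := key Y hY hm hX
    exact ⟨_, T, F, hp, rfl⟩
  have hs2 : s.Finite := by
    refine (Set.finite_Iic (Nat.card J)).subset ?_
    rintro m ⟨T, F, -, rfl⟩
    exact Set.mem_Iic.2 (hle T)
  obtain ⟨m₀, hm₀⟩ := hs2.exists_maximal hs1
  obtain ⟨T₀, F₀, ⟨hp₀, hall₀⟩, hμ₀⟩ := hm₀.prop
  have hmax : ∀ T F : Subgroup G, Pair S P n X T F → (∀ i, i ∈ Phi Z T) → μ T ≤ μ T₀ := by
    intro T F hp hall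
    rw [hμ₀]
    by_contra hcon
    push Not at hcon
    exact absurd (hm₀.le_of_ge ⟨T, F, ⟨hp, hall⟩, rfl⟩ hcon.le) (by omega)
  -- conjugate into `S`
  have hsyl : Syl (S : Subgroup G) (normalizer (BL (S : Subgroup G) n : Set G)) :=
    ZN.CaseTwo.syl_of_sylow S (hTN _ S.isPGroup' D.BS)
  obtain ⟨T₁, hT₁, hTT₁⟩ := exists_syl hp₀.syl.2.1 (hTN _ hp₀.syl.2.1 hp₀.BT)
  obtain ⟨m, hm', hmS⟩ := syl_conj hT₁ hsyl
  have hTS : cj m T₀ ≤ (S : Subgroup G) := by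
    rw [← hmS]
    exact cj_mono m hTT₁
  have hp := pair_cj D.ln hN hp₀ hm'
  have hall : ∀ i, i ∈ Phi Z (cj m T₀) := by
    intro i t ht
    rw [mem_cj] at ht
    obtain ⟨j, hj, -⟩ := (D.ln.norm (inv_mem hm')).2 i
    have h1 : cj (m⁻¹ * t * m) (Z j) = Z j := hall₀ j _ ht
    have h2 : Z i = cj m (Z j) := by rw [← hj, cj_cj_inv]
    rw [h2, cj_cj]
    conv_rhs => rw [← h1]
    rw [cj_cj]
    congr 1
    group
  have hμ : μ T₀ ≤ μ (cj m T₀) := by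
    have h1 : J ⊓ centralizer ((cj m T₀ : Subgroup G) : Set G) = cj m (J ⊓ centralizer (T₀ : Set G)) := by
      rw [cj_inf, cj_centralizer, hJ, cj_eq_of_mem_normalizer ((lb S n).norm_B_le hm')]
    simp only [μ]
    rw [h1, card_cj]
  generalize cj m T₀ = T at hTS hp hμ hall
  generalize cj m F₀ = K at hp
  refine ⟨T, K, ⟨hp, hTS, ?_, ?_⟩, hall⟩
  · rintro Y' hYJ hPhi ⟨j, hj, hjY⟩
    exact absurd (hall j) hj
  · intro hall' Y' hYJ hlt
    by_contra hcon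
    have hne : ∀ i, ∃ z ∈ Z i, z ≠ 1 ∧ z ∈ Y' := by
      intro i
      obtain ⟨z, hz, h1, hzT⟩ := exists_fix hp.syl.2.1 (D.bg.Z_two i) (D.Z_ne_bot i) fun t ht =>
        mem_normalizer_iff_cj.2 (hall i t ht)
      exact ⟨z, hz, h1, hlt.le ⟨D.ln.fr.Z_le i hz, hzT⟩⟩
    obtain ⟨T', F', ⟨hp', hall'⟩, hT'Y⟩ := key Y' hYJ hne hcon
    have h3 := (hmax T' F' hp' hall').trans hμ
    have h5 : Nat.card ↥(J ⊓ centralizer (T : Set G)) < Nat.card Y' := by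
      refine lt_of_le_of_ne (Subgroup.card_le_of_le hlt.le) fun e => ?_
      exact hlt.ne (Subgroup.eq_of_le_of_card_ge hlt.le e.ge)
    have h6 : Nat.card Y' ≤ Nat.card ↥(J ⊓ centralizer (T' : Set G)) :=
      Subgroup.card_le_of_le (le_inf hYJ (le_centralizer_iff.1 hT'Y))
    simp only [μ] at h3
    omega

/-- **(T1)** `Y ≤ Z_J` meets all `Z i` nontrivially: `C_G(Y) ≤ X` for all `X ≥ C_G(Z_J), N_G(B)`; `q ≠ 2, 4`. -/
theorem tiAll (hq2 : 2 < Nat.card F) (hq : Nat.card F ≠ 4) {X Y : Subgroup G} (hY : Y ≤ ZL (S : Subgroup G) n)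
    (hm : ∀ i, ∃ z ∈ Z i, z ≠ 1 ∧ z ∈ Y)
    (hD : centralizer (ZL (S : Subgroup G) n : Set G) ≤ X) (hN : normalizer (BL (S : Subgroup G) n : Set G) ≤ X) :
    centralizer (Y : Set G) ≤ X := by
  by_contra hX
  obtain ⟨T, R, hs, hall⟩ := D.exists_sel_all hq2 hY hm hD hN hX
  exact caseTwo D hs hD hN hall hq

/-- `|F| = 2`: `Y` meeting all `Z i` contains `Z_J`. -/
theorem le_of_two (hq2 : Nat.card F = 2) {Y : Subgroup G} (hm : ∀ i, ∃ z ∈ Z i, z ≠ 1 ∧ z ∈ Y) :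
    ZL (S : Subgroup G) n ≤ Y := by
  have h1 : ZL (S : Subgroup G) n ≤ ⨆ i ∈ (Finset.univ : Finset (Fin k)), Z i := by
    intro x hx
    refine ModQ.W_inf_ZJ D.ln.fr _ x ?_ hx
    have h3 : x ∈ zl (S : Subgroup G) P := D.ln.fr.ZJV hx
    rw [D.ln.fr.V_eq] at h3
    have e : (⨆ i ∈ (Finset.univ : Finset (Fin k)), Wn M i) = ⨆ i, Wn M i := by simp
    rw [e]
    exact h3
  refine h1.trans (iSup₂_le fun i _ y hy => ?_)
  obtain ⟨z, hz, hz1, hzY⟩ := hm i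
  by_cases hy1 : y = 1
  · rw [hy1]; exact one_mem _
  · have h2 : Nat.card (Z i) = 2 := by rw [D.ln.fr.cardZ i, hq2]
    rwa [UniPlus.eq_of_card_two h2 hy hz hy1 hz1]

/-- **(T1)** `Y ≤ Z_J` meets all `Z i` nontrivially: `C_G(Y) ≤ N_G(Z_J)`; `q ≠ 4`. -/
theorem tiAll' (hq : Nat.card F ≠ 4) {Y : Subgroup G} (hY : Y ≤ ZL (S : Subgroup G) n)
    (hm : ∀ i, ∃ z ∈ Z i, z ≠ 1 ∧ z ∈ Y) :
    centralizer (Y : Set G) ≤ normalizer (ZL (S : Subgroup G) n : Set G) := by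
  rcases Nat.lt_or_ge 2 (Nat.card F) with h | h
  · exact D.tiAll h hq hY hm (centralizer_le_normalizer _) (lb S n).norm_B_le
  · have h2 : Nat.card F = 2 := le_antisymm h (Finite.one_lt_card)
    exact (centralizer_le (by exact_mod_cast D.le_of_two h2 hm)).trans (centralizer_le_normalizer _)

/-- **(T2) from (T1).** -/
theorem tiL_of (hq : 2 < Nat.card F)
    (hF : ∀ Y : Subgroup G, Y ≤ ZL (S : Subgroup G) n → (∀ i, ∃ z ∈ Z i, z ≠ 1 ∧ z ∈ Y) →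
      centralizer (Y : Set G) ≤ normalizer (ZL (S : Subgroup G) n : Set G))
    {i j : Fin k} (hij : i ≠ j) {z : G} (hz : z ∈ Z i) (hz1 : z ≠ 1) :
    centralizer ({z} : Set G) ⊓ (⨅ l : {l : Fin k // l ≠ i ∧ l ≠ j}, centralizer (Z l : Set G)) ≤
      normalizer (Z i : Set G) := by
  classical
  set H : Subgroup G := centralizer ({z} : Set G) ⊓
    (⨅ l : {l : Fin k // l ≠ i ∧ l ≠ j}, centralizer (Z l : Set G)) with hH
  have hHz : ∀ x ∈ H, x * z = z * x := fun x hx => mem_centralizer_singleton_iff.1 hx.1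
  have hHl : ∀ x ∈ H, ∀ l, l ≠ i → l ≠ j → ∀ y ∈ Z l, x * y = y * x := fun x hx l h1 h2 y hy =>
    (mem_centralizer_iff.1 ((mem_iInf.1 hx.2) ⟨l, h1, h2⟩) y hy).symm
  -- `H` is a centraliser
  set η : Subgroup G := zpowers z ⊔ ⨆ l : {l : Fin k // l ≠ i ∧ l ≠ j}, Z l with hη
  have hηJ : η ≤ ZL (S : Subgroup G) n :=
    sup_le (by rw [zpowers_le]; exact D.ln.fr.Z_le i hz) (iSup_le fun l => D.ln.fr.Z_le l)
  have hηH : centralizer (η : Set G) = H := by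
    apply le_antisymm
    · refine le_inf (centralizer_le ?_) (le_iInf fun l => centralizer_le ?_)
      · rw [Set.singleton_subset_iff]
        exact mem_sup_left (mem_zpowers z)
      · exact_mod_cast le_sup_of_le_right (le_iSup (fun l : {l : Fin k // l ≠ i ∧ l ≠ j} => Z l) l)
    · intro x hx
      have h1 : η ≤ centralizer ({x} : Set G) := by
        refine sup_le ?_ (iSup_le fun l y hy => ?_)
        · rw [zpowers_le, mem_centralizer_singleton_iff]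
          exact (hHz x hx).symm
        · rw [mem_centralizer_singleton_iff]
          exact (hHl x hx l l.2.1 l.2.2 y hy).symm
      exact mem_centralizer_iff.2 fun y hy => mem_centralizer_singleton_iff.1 (h1 hy)
  have hJ2 : IsPGroup 2 (ZL (S : Subgroup G) n) := (lb S n).Bp.to_le (lb S n).ZB
  have hη1 : η ≠ ⊥ := by
    intro e
    have h1 : z ∈ η := mem_sup_left (mem_zpowers z)
    rw [e, mem_bot] at h1
    exact hz1 h1
  have hc : H ⊓ centralizer (o2 H : Set G) ≤ o2 H := by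
    rw [← hηH]
    exact Swap.char2_cent D.ln.hyp.ctx.char2 (hJ2.to_le hηJ) hη1
  have hBH : BL (S : Subgroup G) n ≤ H := by
    rw [← hηH]
    exact (lb S n).Bc.trans (centralizer_le (by exact_mod_cast hηJ))
  obtain ⟨T₀, hT₀, hBT₀⟩ := exists_syl (lb S n).Bp hBH
  have hKT : lev (S : Subgroup G) (n + 1) ≤ T₀ := (lb S n).KB.trans hBT₀
  have hTN : T₀ ≤ normalizer (BL (S : Subgroup G) n : Set G) := (lb S n).two_le hT₀.2.1 hBT₀
  have hJn : ∀ g ∈ H, g ∈ normalizer (ZL (S : Subgroup G) n : Set G) → g ∈ normalizer (Z i : Set G) :=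
    fun g hg h => D.norm_of_comm h hz hz1 (hHz g hg)
  -- `T₀` fixes all indices
  have hTi : ∀ t ∈ T₀, cj t (Z i) = Z i := fun t ht =>
    D.fix_of_comm (hTN ht) hz hz1 (hHz t (hT₀.1 ht))
  have hTj : ∀ t ∈ T₀, cj t (Z j) = Z j := by
    intro t ht
    obtain ⟨m, hm, -⟩ := (D.ln.norm (hTN ht)).2 j
    have h1 : ∀ l, cj t (Z l) = Z l → m = l → l = j := by
      rintro l h1 rfl
      apply D.Z_inj'
      rw [← cj_inv_cj t (Z m), h1, ← hm, cj_inv_cj]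
    rw [hm]
    by_cases e : m = j
    · rw [e]
    exfalso
    by_cases e' : m = i
    · exact hij (h1 i (hTi t ht) e')
    · refine e (h1 m ?_ rfl)
      obtain ⟨y, hy, hy1⟩ := D.exists_Z m
      exact D.fix_of_comm (hTN ht) hy hy1 (hHl t (hT₀.1 ht) m e' e y hy)
  obtain ⟨y, hy, hy1, hyT⟩ := exists_fix hT₀.2.1 (D.bg.Z_two j) (D.Z_ne_bot j) fun t ht =>
    mem_normalizer_iff_cj.2 (hTj t ht)
  refine MinSimple.MinParabolic.le_of_forall hT₀.1 ?_ fun R hR hRH => ?_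
  · rintro g ⟨hg, hgT⟩
    exact hJn g hg ((lb S n).nrm T₀ hT₀.2.1 hKT hgT)
  by_cases hlev : lev (S : Subgroup G) (n + 1) ≤ o2 R
  · exact fun g hg => hJn g (hRH hg) ((lb S n).nrm _ (isPGroup_o2 R) hlev (le_normalizer_o2 R hg))
  by_cases hZ : R ≤ centralizer (zc T₀ : Set G)
  · have hyZ : y ∈ zc T₀ := by
      have h1 := D.ln.fr.Z_le j hy
      exact mem_zc.2 ⟨hBT₀ ((lb S n).ZB h1), (lb S n).sq y h1, fun t ht => mem_centralizer_iff.1 hyT t ht⟩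
    have hRη : R ≤ centralizer ((η ⊔ zpowers y : Subgroup G) : Set G) := by
      intro r hr
      have h1 : η ⊔ zpowers y ≤ centralizer ({r} : Set G) := by
        refine sup_le (fun x hx => ?_) ?_
        · rw [← hηH] at hRH
          exact mem_centralizer_singleton_iff.2 (mem_centralizer_iff.1 (hRH hr) x hx)
        · rw [zpowers_le, mem_centralizer_singleton_iff]
          exact mem_centralizer_iff.1 (hZ hr) y hyZ
      exact mem_centralizer_iff.2 fun x hx => mem_centralizer_singleton_iff.1 (h1 hx)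
    have h2 := hF (η ⊔ zpowers y) (sup_le hηJ (by rw [zpowers_le]; exact D.ln.fr.Z_le j hy)) fun l => by
      by_cases hl : l = i
      · subst hl
        exact ⟨z, hz, hz1, mem_sup_left (mem_sup_left (mem_zpowers z))⟩
      by_cases hl' : l = j
      · subst hl'
        exact ⟨y, hy, hy1, mem_sup_right (mem_zpowers y)⟩
      obtain ⟨x, hx, hx1⟩ := D.exists_Z l
      exact ⟨x, hx, hx1, mem_sup_left (mem_sup_right
        ((le_iSup (fun l : {l : Fin k // l ≠ i ∧ l ≠ j} => Z l) ⟨l, hl, hl'⟩) hx))⟩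
    exact fun g hg => hJn g (hRH hg) (h2 (hRη hg))
  -- the block
  have hsyl : Syl T₀ R := ⟨hR.le, hT₀.2.1, fun Q hQ h2 hTQ => hT₀.2.2 Q (hQ.trans hRH) h2 hTQ⟩
  have hcR : R ⊓ centralizer (o2 R : Set G) ≤ o2 R := by
    have h4 : o2 H ≤ o2 R :=
      le_o2 (isPGroup_o2 H) ((o2_le_syl hT₀).trans hR.le) (hRH.trans (le_normalizer_o2 H))
    rintro x ⟨hx, hxc⟩
    exact h4 (hc ⟨hRH hx, centralizer_le (by exact_mod_cast h4) hxc⟩)
  obtain ⟨L', h1, h2, m, h3⟩ := exists_idx D.ln hq hsyl hBT₀ hR hcR hlev hZ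
  have hmi : m ≠ i := by
    rintro rfl
    exact D.not_mem_C hz hz1 ((h3 z (D.ln.fr.Z_le m hz)).2 fun l hl => hHz l (hRH (h1 hl)))
  have hmj : m = j := by
    by_contra hmj
    obtain ⟨x, hx, hx1⟩ := D.exists_Z m
    exact D.not_mem_C hx hx1 ((h3 x (D.ln.fr.Z_le m hx)).2 fun l hl => hHl l (hRH (h1 hl)) m hmi hmj x hx)
  refine h2.trans (sup_le (fun t ht => mem_normalizer_iff_cj.2 (hTi t ht)) ?_)
  refine le_trans (fun l hl => ?_) (centralizer_le_normalizer _)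
  exact mem_centralizer_iff.2 fun x hx => ((h3 x (D.ln.fr.Z_le i hx)).1 (D.Z_C hmi hx) l hl).symm

/-- **(T2)** `i ≠ j`, `1 ≠ z ∈ Z i`: `C_G(z) ∩ ⋂ C_G(Z l) ≤ N_G(Z i)` (`l ≠ i, j`), `q ≠ 4`. -/
theorem tiL (hq : Nat.card F ≠ 4) {i j : Fin k} (hij : i ≠ j) {z : G} (hz : z ∈ Z i) (hz1 : z ≠ 1) :
    centralizer ({z} : Set G) ⊓ (⨅ l : {l : Fin k // l ≠ i ∧ l ≠ j}, centralizer (Z l : Set G)) ≤
      normalizer (Z i : Set G) := by
  rcases Nat.lt_or_ge 2 (Nat.card F) with h | h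
  · exact D.tiL_of h (fun Y hY hm => D.tiAll' hq hY hm) hij hz hz1
  · have h2 : Nat.card F = 2 := le_antisymm h (Finite.one_lt_card)
    refine inf_le_left.trans (le_trans (fun g hg => ?_) (centralizer_le_normalizer _))
    refine mem_centralizer_iff.2 fun x hx => ?_
    by_cases hx1 : x = 1
    · rw [hx1]; simp
    have h3 : Nat.card (Z i) = 2 := by rw [D.ln.fr.cardZ i, h2]
    rw [UniPlus.eq_of_card_two h3 hx hz hx1 hz1]
    exact (mem_centralizer_singleton_iff.1 hg).symm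

end DtL

end Cfsg.Agent.Omega.OM.SWQ
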