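import Cfsg.Agent.StdRank2.OutField
import Cfsg.Agent.ZN.ChoiceBase

/-!
# THEOREM SWQ (#21705, #22378 (c)), CASE II: the abstract part

`W` is elementary abelian with coordinates `c : W → F × F`, `Z` is the line `y = 0`, the 2-group `T` acts by
`(x, y) ↦ (s x + l s y, s y)` (`s ∈ Aut(F)`, `l ∈ F`), `|F| ≠ 4`.

* `AB.cost` : the hypothesis `Cost` of THEOREM COUNT, bad elements = the elements of `Z` which are moved by `T`;
* `AB.h3` : `Z ≤ [W, O]` if `O` moves `Z`;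
* `AB.h4` : an element which normalises `O` and `W` normalises `Z`.
-/

set_option autoImplicit false

namespace Cfsg.Agent.Omega.OM.SWQ

open Subgroup Cfsg Cfsg.Agent.ZN Cfsg.Agent.ZN.ChoiceBase
open Cfsg.Agent.StdRank2.OutField (unique_invol card_fix)
open scoped Pointwise commutatorElement

universe u

variable {G : Type u} [Group G] {F : Type} [Field F]

/-- `t` acts on `W` as `(x, y) ↦ (s x + l s y, s y)`. -/
def Act (W : Subgroup G) (c : G → F × F) (t : G) (s : RingAut F) (l : F) : Prop :=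
  ∀ w ∈ W, c (t * w * t⁻¹) = (s (c w).1 + l * s (c w).2, s (c w).2)

/-- The data. -/
structure AB (T W Z : Subgroup G) (c : G → F × F) : Prop where
  ab : ∀ x ∈ W, ∀ y ∈ W, x * y = y * x
  sq : ∀ x ∈ W, x * x = 1
  mul : ∀ x ∈ W, ∀ y ∈ W, c (x * y) = c x + c y
  surj : ∀ p : F × F, ∃ w ∈ W, c w = p
  inj : ∀ w ∈ W, c w = 0 → w = 1
  memZ : ∀ w, w ∈ Z ↔ w ∈ W ∧ (c w).2 = 0
  TW : ∀ t ∈ T, ∀ w ∈ W, t * w * t⁻¹ ∈ W
  act : ∀ t ∈ T, ∃ (s : RingAut F) (l : F), Act W c t s l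
  T2 : IsPGroup 2 T

namespace AB

variable {T W Z : Subgroup G} {c : G → F × F} (h : AB T W Z c)
include h

theorem one : c 1 = 0 := by
  have := h.mul 1 W.one_mem 1 W.one_mem
  rw [mul_one] at this
  exact left_eq_add.1 this

theorem inv_eq {w : G} (hw : w ∈ W) : w⁻¹ = w := inv_eq_of_mul_eq_one_left (h.sq w hw)

theorem eq_of {v w : G} (hv : v ∈ W) (hw : w ∈ W) (e : c v = c w) : v = w := by
  have h1 : c (v * w⁻¹) = 0 := by
    rw [h.inv_eq hw, h.mul v hv w hw, e, ← h.mul w hw w hw, h.sq w hw, h.one]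
  exact mul_inv_eq_one.1 (h.inj _ (mul_mem hv (inv_mem hw)) h1)

theorem ZW : Z ≤ W := fun z hz => ((h.memZ z).1 hz).1

theorem TW' {t w : G} (ht : t ∈ T) (hw : w ∈ W) : t⁻¹ * w * t ∈ W := by
  have := h.TW t⁻¹ (inv_mem ht) w hw
  rwa [inv_inv] at this

theorem act_mul {t t' : G} {s s' : RingAut F} {l l' : F} (ht' : t' ∈ T) (h1 : Act W c t s l)
    (h2 : Act W c t' s' l') : Act W c (t * t') (s * s') (s l' + l) := by
  intro w hw
  have h3 := h.TW t' ht' w hw
  have h4 := h1 _ h3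
  rw [h2 w hw] at h4
  have e1 : t * t' * w * (t * t')⁻¹ = t * (t' * w * t'⁻¹) * t⁻¹ := by group
  rw [e1, h4]
  ext
  · show s (s' (c w).1 + l' * s' (c w).2) + l * s (s' (c w).2) = s (s' (c w).1) + (s l' + l) * s (s' (c w).2)
    rw [map_add, map_mul]
    ring
  · rfl

omit h in
theorem act_one : Act W c (1 : G) (1 : RingAut F) 0 := by
  intro w _
  have e1 : (1 : G) * w * 1⁻¹ = w := by group
  rw [e1]
  ext
  · show (c w).1 = (c w).1 + 0 * (c w).2
    ring
  · rfl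

theorem act_inv {t : G} {s : RingAut F} {l : F} (ht : t ∈ T) (h1 : Act W c t s l) :
    Act W c t⁻¹ s⁻¹ (-(s⁻¹ l)) := by
  intro w hw
  have h2 := h1 _ (h.TW' ht hw)
  have e1 : t * (t⁻¹ * w * t) * t⁻¹ = w := by group
  rw [e1] at h2
  have hx := congrArg Prod.fst h2
  have hy := congrArg Prod.snd h2
  dsimp only at hx hy
  have hs : ∀ x : F, s⁻¹ (s x) = x := fun x => s.symm_apply_apply x
  rw [inv_inv]
  ext
  · show (c (t⁻¹ * w * t)).1 = s⁻¹ (c w).1 + -(s⁻¹ l) * s⁻¹ (c w).2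
    rw [hx, hy, map_add, map_mul, hs, hs]
    ring
  · show (c (t⁻¹ * w * t)).2 = s⁻¹ (c w).2
    rw [hy, hs]

theorem act_pow {t : G} {s : RingAut F} {l : F} (ht : t ∈ T) (h1 : Act W c t s l) (n : ℕ) :
    ∃ l', Act W c (t ^ n) (s ^ n) l' := by
  induction n with
  | zero => exact ⟨0, by rw [pow_zero, pow_zero]; exact act_one⟩
  | succ n ih =>
    obtain ⟨l', h2⟩ := ih
    exact ⟨_, by rw [pow_succ, pow_succ]; exact h.act_mul ht h2 h1⟩

/-- uniqueness -/
theorem act_uniq {t : G} {s s' : RingAut F} {l l' : F} (h1 : Act W c t s l) (h2 : Act W c t s' l') :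
    s = s' ∧ l = l' := by
  have hs : s = s' := by
    ext x
    obtain ⟨w, hw, e⟩ := h.surj (x, 0)
    have h3 := (h1 w hw).symm.trans (h2 w hw)
    rw [e] at h3
    have h4 := congrArg Prod.fst h3
    dsimp only at h4
    rwa [map_zero, map_zero, mul_zero, mul_zero, add_zero, add_zero] at h4
  refine ⟨hs, ?_⟩
  subst hs
  obtain ⟨w, hw, e⟩ := h.surj (0, 1)
  have h3 := (h1 w hw).symm.trans (h2 w hw)
  rw [e] at h3
  have h4 := congrArg Prod.fst h3
  dsimp only at h4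
  rwa [map_zero, map_one, zero_add, zero_add, mul_one, mul_one] at h4

/-- centralising `W` -/
theorem cent_iff {t : G} {s : RingAut F} {l : F} (ht : t ∈ T) (h1 : Act W c t s l) :
    t ∈ centralizer (W : Set G) ↔ s = 1 ∧ l = 0 := by
  constructor
  · intro h2
    refine h.act_uniq h1 (l' := 0) fun w hw => ?_
    have e1 : t * w * t⁻¹ = w := by
      rw [← mem_centralizer_iff.1 h2 w hw]; group
    rw [e1]
    ext
    · show (c w).1 = (c w).1 + 0 * (c w).2
      ring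
    · rfl
  · rintro ⟨rfl, rfl⟩
    refine mem_centralizer_iff.2 fun w hw => ?_
    have e1 : t * w * t⁻¹ = w := by
      apply h.eq_of (h.TW t ht w hw) hw
      rw [h1 w hw]
      ext
      · show (c w).1 + 0 * (c w).2 = (c w).1
        ring
      · rfl
    exact (mul_inv_eq_iff_eq_mul.1 e1).symm

/-- moving `Z` -/
theorem move_iff {t : G} {s : RingAut F} {l : F} (ht : t ∈ T) (h1 : Act W c t s l) :
    (∀ z ∈ Z, t * z = z * t) ↔ s = 1 := by
  constructor
  · intro h2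
    ext x
    obtain ⟨w, hw, e⟩ := h.surj (x, 0)
    have hz : w ∈ Z := (h.memZ w).2 ⟨hw, by rw [e]⟩
    have h3 := h1 w hw
    have e1 : t * w * t⁻¹ = w := by rw [h2 w hz]; group
    rw [e1, e] at h3
    have h4 := congrArg Prod.fst h3
    dsimp only at h4
    rw [map_zero, mul_zero, add_zero] at h4
    exact h4.symm
  · rintro rfl z hz
    obtain ⟨hzW, hz2⟩ := (h.memZ z).1 hz
    have e1 : t * z * t⁻¹ = z := by
      apply h.eq_of (h.TW t ht z hzW) hzW
      rw [h1 z hzW]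
      ext
      · show (c z).1 + l * (c z).2 = (c z).1
        rw [hz2, mul_zero, add_zero]
      · rfl
    exact mul_inv_eq_iff_eq_mul.1 e1

/-- an element of `O` which induces an involution on `F` -/
theorem exists_invol {O : Subgroup G} (hO : O ≤ T) (hmov : ∃ o ∈ O, ∃ z ∈ Z, o * z ≠ z * o) :
    ∃ o ∈ O, ∃ (s : RingAut F) (l : F), Act W c o s l ∧ s ≠ 1 ∧ s * s = 1 := by
  classical
  obtain ⟨o, ho, z, hz, hne⟩ := hmov
  obtain ⟨s, l, hs⟩ := h.act o (hO ho)
  have hs1 : s ≠ 1 := fun e => hne ((h.move_iff (hO ho) hs).2 e z hz)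
  obtain ⟨n, hn⟩ := h.T2 ⟨o, hO ho⟩
  have hn' : o ^ 2 ^ n = 1 := by simpa using congrArg Subtype.val hn
  have hsn : s ^ 2 ^ n = 1 := by
    obtain ⟨l', h1⟩ := h.act_pow (hO ho) hs (2 ^ n)
    rw [hn'] at h1
    exact (h.act_uniq h1 act_one).1
  have hex : ∃ n, s ^ 2 ^ n = 1 := ⟨n, hsn⟩
  set m := Nat.find hex with hm
  have hm1 : s ^ 2 ^ m = 1 := Nat.find_spec hex
  have hm0 : m ≠ 0 := by
    intro h0
    rw [h0, pow_zero, pow_one] at hm1
    exact hs1 hm1
  obtain ⟨k, hk⟩ := Nat.exists_eq_succ_of_ne_zero hm0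
  have hk1 : s ^ 2 ^ k ≠ 1 := Nat.find_min hex (by omega)
  obtain ⟨l', h1⟩ := h.act_pow (hO ho) hs (2 ^ k)
  refine ⟨o ^ 2 ^ k, pow_mem ho _, _, l', h1, hk1, ?_⟩
  rw [← pow_add, ← two_mul, ← pow_succ', ← Nat.succ_eq_add_one, ← hk]
  exact hm1

/-- the commutator with a root element -/
theorem act_comm {o t : G} (ho : o ∈ T) (ht : t ∈ T) {s : RingAut F} {l m : F} (h1 : Act W c o s m)
    (h2 : Act W c t 1 l) : Act W c (o * t * o⁻¹ * t⁻¹) 1 (s l - l) := by
  have h3 := h.act_mul (inv_mem ht) (h.act_mul (inv_mem ho) (h.act_mul ht h1 h2) (h.act_inv ho h1)) (h.act_inv ht h2)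
  have e1 : s * 1 * s⁻¹ * 1⁻¹ = (1 : RingAut F) := by group
  rw [e1] at h3
  have e2 : (s * 1 * s⁻¹) (-((1 : RingAut F)⁻¹ l)) + ((s * 1) (-(s⁻¹ m)) + (s l + m)) = s l - l := by
    have e3 : s * 1 * s⁻¹ = (1 : RingAut F) := by group
    rw [e3, mul_one]
    have e4 : s (-(s⁻¹ m)) = -m := by
      rw [map_neg]
      congr 1
      exact s.apply_symm_apply m
    rw [e4]
    have e5 : (1 : RingAut F) (-((1 : RingAut F)⁻¹ l)) = -l := by
      rw [inv_one]; rfl
    rw [e5]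
    ring
  rw [e2] at h3
  exact h3

/-- **(H3)** -/
theorem h3 {O : Subgroup G} (hO : O ≤ T) (hOT : ∀ t ∈ T, ∀ o ∈ O, t * o * t⁻¹ ∈ O)
    (full : ∀ l : F, ∃ t ∈ T, Act W c t 1 l) (hmov : ∃ o ∈ O, ∃ z ∈ Z, o * z ≠ z * o) : Z ≤ ⁅W, O⁆ := by
  obtain ⟨o, ho, s, m, hs, hs1, -⟩ := h.exists_invol hO hmov
  obtain ⟨l, hl⟩ : ∃ l, s l ≠ l := by
    by_contra hcon
    push Not at hcon
    exact hs1 (RingEquiv.ext hcon)
  obtain ⟨t, ht, htl⟩ := full l
  have h1 := h.act_comm (hO ho) ht hs htl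
  set d : G := o * t * o⁻¹ * t⁻¹ with hd
  have hdO : d ∈ O := by
    have e1 : d = o * (t * o⁻¹ * t⁻¹) := by rw [hd]; group
    rw [e1]
    exact mul_mem ho (hOT t ht _ (inv_mem ho))
  have hne : s l - l ≠ 0 := sub_ne_zero.2 hl
  intro z hz
  obtain ⟨hzW, hz2⟩ := (h.memZ z).1 hz
  obtain ⟨w, hw, e⟩ := h.surj (0, (c z).1 / (s l - l))
  have h2 := h1 w hw
  rw [e] at h2
  have h3 : z = d * w * d⁻¹ * w⁻¹ := by
    apply h.eq_of hzW (mul_mem (h.TW d (hO hdO) w hw) (inv_mem hw))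
    rw [h.inv_eq hw, h.mul _ (h.TW d (hO hdO) w hw) _ hw, h2, e]
    have h4 : ((1 : RingAut F) (0 : F) + (s l - l) * (1 : RingAut F) ((c z).1 / (s l - l)),
        (1 : RingAut F) ((c z).1 / (s l - l))) + (0, (c z).1 / (s l - l)) =
        ((c z).1, (c z).1 / (s l - l) + (c z).1 / (s l - l)) := by
      ext
      · show (0 : F) + (s l - l) * ((c z).1 / (s l - l)) + 0 = (c z).1
        rw [zero_add, add_zero, mul_div_cancel₀ _ hne]
      · rfl
    rw [h4]
    have h5 : c w + c w = 0 := by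
      rw [← h.mul w hw w hw, h.sq w hw, h.one]
    rw [e] at h5
    have h6 := congrArg Prod.snd h5
    ext
    · rfl
    · show (c z).2 = (c z).1 / (s l - l) + (c z).1 / (s l - l)
      rw [hz2]
      exact h6.symm
  rw [h3, ← commutatorElement_def, commutator_comm]
  exact commutator_mem_commutator hdO hw

/-- **(H4)** -/
theorem h4 [Finite G] [Finite F] [CharP F 2] {O : Subgroup G} (hO : O ≤ T) (hOT : ∀ t ∈ T, ∀ o ∈ O, t * o * t⁻¹ ∈ O)
    (full : ∀ l : F, ∃ t ∈ T, Act W c t 1 l) (hmov : ∃ o ∈ O, ∃ z ∈ Z, o * z ≠ z * o) (h4 : Nat.card F ≠ 4)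
    {f : G} (hfO : ∀ o ∈ O, f * o * f⁻¹ ∈ O) (hfW : f ∈ normalizer (W : Set G)) : cj f Z = Z := by
  by_contra hne
  obtain ⟨o, ho, s, m, hs, hs1, hs2⟩ := h.exists_invol hO hmov
  -- an element `w₁ = f z₁ f⁻¹` outside `Z`
  obtain ⟨z₁, hz₁, hw₁⟩ : ∃ z₁ ∈ Z, f * z₁ * f⁻¹ ∉ Z := by
    by_contra hcon
    push Not at hcon
    apply hne
    apply Subgroup.eq_of_le_of_card_ge
    · rintro _ ⟨z, hz, rfl⟩
      exact hcon z hz
    · exact (card_cj f Z).ge
  have hfw : ∀ {w : G}, w ∈ W → f * w * f⁻¹ ∈ W := fun {w} hw => (mem_normalizer_iff.1 hfW w).1 hw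
  have hw₁W : f * z₁ * f⁻¹ ∈ W := hfw (h.ZW hz₁)
  have hy₁ : (c (f * z₁ * f⁻¹)).2 ≠ 0 := fun e => hw₁ ((h.memZ _).2 ⟨hw₁W, e⟩)
  -- an element of `O` which centralises `w₁` and `Z` centralises `W`
  have key : ∀ e ∈ O, e * (f * z₁ * f⁻¹) = (f * z₁ * f⁻¹) * e → ∀ {l : F}, Act W c e 1 l → l = 0 := by
    intro e he hec l hl
    have h1 := hl _ hw₁W
    have e1 : e * (f * z₁ * f⁻¹) * e⁻¹ = f * z₁ * f⁻¹ := mul_inv_eq_iff_eq_mul.2 hec
    rw [e1] at h1
    have h2 := congrArg Prod.fst h1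
    have h3 : (c (f * z₁ * f⁻¹)).1 = (c (f * z₁ * f⁻¹)).1 + l * (c (f * z₁ * f⁻¹)).2 := h2
    have h5 := left_eq_add.1 h3
    exact (mul_eq_zero.1 h5).resolve_right hy₁
  -- conjugates of the elements `d ∈ O` with `s_d = 1`
  have hcon : ∀ d ∈ O, ∀ l : F, Act W c d 1 l → (f * d * f⁻¹) * (f * z₁ * f⁻¹) = (f * z₁ * f⁻¹) * (f * d * f⁻¹) := by
    intro d hd l hl
    have h1 := (h.move_iff (hO hd) hl).2 rfl z₁ hz₁
    calc (f * d * f⁻¹) * (f * z₁ * f⁻¹) = f * (d * z₁) * f⁻¹ := by group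
      _ = f * (z₁ * d) * f⁻¹ := by rw [h1]
      _ = _ := by group
  -- if `f d f⁻¹` centralises `W`, then so does `d`
  have hback : ∀ d ∈ O, f * d * f⁻¹ ∈ centralizer (W : Set G) → d ∈ centralizer (W : Set G) := by
    intro d _ hd
    refine mem_centralizer_iff.2 fun w hw => ?_
    have h1 := mem_centralizer_iff.1 hd _ (hfw hw)
    have h2 := congrArg (fun t => f⁻¹ * t * f) h1
    have e1 : f⁻¹ * (f * w * f⁻¹ * (f * d * f⁻¹)) * f = w * d := by group
    have e2 : f⁻¹ * (f * d * f⁻¹ * (f * w * f⁻¹)) * f = d * w := by group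
    rw [← e1, ← e2]
    exact h2
  have hforw : ∀ d, d ∈ centralizer (W : Set G) → f * d * f⁻¹ ∈ centralizer (W : Set G) := by
    intro d hd
    refine mem_centralizer_iff.2 fun w hw => ?_
    have hw' : f⁻¹ * w * f ∈ W := by
      have := (mem_normalizer_iff.1 (inv_mem hfW) w).1 hw
      rwa [inv_inv] at this
    have h1 := mem_centralizer_iff.1 hd _ hw'
    have h2 := congrArg (fun t => f * t * f⁻¹) h1
    have e1 : f * (f⁻¹ * w * f * d) * f⁻¹ = w * (f * d * f⁻¹) := by group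
    have e2 : f * (d * (f⁻¹ * w * f)) * f⁻¹ = f * d * f⁻¹ * w := by group
    rw [← e1, ← e2]
    exact h2
  -- the automorphism of `f d f⁻¹`: an involution if `l ≠ 0`
  have hinv : ∀ d ∈ O, ∀ l : F, Act W c d 1 l → l ≠ 0 → ∃ (r : RingAut F) (k : F), Act W c (f * d * f⁻¹) r k ∧
      r ≠ 1 ∧ r * r = 1 := by
    intro d hd l hl hl0
    obtain ⟨r, k, hr⟩ := h.act _ (hO (hfO d hd))
    refine ⟨r, k, hr, ?_, ?_⟩
    · rintro rfl
      have h1 := key _ (hfO d hd) (hcon d hd l hl) hr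
      subst h1
      have h2 := hback d hd ((h.cent_iff (hO (hfO d hd)) hr).2 ⟨rfl, rfl⟩)
      exact hl0 ((h.cent_iff (hO hd) hl).1 h2).2
    · have h1 : Act W c (d * d) (1 * 1) ((1 : RingAut F) l + l) := h.act_mul (hO hd) hl hl
      have h2 : d * d ∈ centralizer (W : Set G) := by
        refine (h.cent_iff (mul_mem (hO hd) (hO hd)) h1).2 ⟨one_mul 1, ?_⟩
        exact CharTwo.add_self_eq_zero l
      have h3 := hforw _ h2
      have e1 : f * (d * d) * f⁻¹ = (f * d * f⁻¹) * (f * d * f⁻¹) := by group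
      rw [e1] at h3
      have h4 := h.act_mul (hO (hfO d hd)) hr hr
      exact ((h.cent_iff (mul_mem (hO (hfO d hd)) (hO (hfO d hd))) h4).1 h3).1
  -- two elements
  have huniq : ∀ d ∈ O, ∀ l : F, Act W c d 1 l → l ≠ 0 → ∀ d' ∈ O, ∀ l' : F, Act W c d' 1 l' → l' ≠ 0 → l = l' := by
    intro d hd l hl hl0 d' hd' l' hl' hl0'
    obtain ⟨r, k, hr, hr1, hr2⟩ := hinv d hd l hl hl0
    obtain ⟨r', k', hr', hr1', hr2'⟩ := hinv d' hd' l' hl' hl0'
    have hrr : r = r' := unique_invol hr2 hr2' hr1 hr1'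
    subst hrr
    -- `d'' = d d'⁻¹`
    have hd2 : d * d'⁻¹ ∈ O := mul_mem hd (inv_mem hd')
    have a1 := h.act_mul (inv_mem (hO hd')) hl (h.act_inv (hO hd') hl')
    have a2 := h.act_mul (inv_mem (hO (hfO d' hd'))) hr (h.act_inv (hO (hfO d' hd')) hr')
    have e1 : (f * d * f⁻¹) * (f * d' * f⁻¹)⁻¹ = f * (d * d'⁻¹) * f⁻¹ := by group
    rw [e1, mul_inv_cancel] at a2
    rw [one_mul, inv_one] at a1
    have h1 := key _ (hfO _ hd2) (hcon _ hd2 _ a1) a2
    rw [h1] at a2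
    have h2 := hback _ hd2 ((h.cent_iff (hO (hfO _ hd2)) a2).2 ⟨rfl, rfl⟩)
    have h3 := ((h.cent_iff (hO hd2) a1).1 h2).2
    have h4 : -l' + l = 0 := h3
    rw [neg_add_eq_zero] at h4
    exact h4.symm
  -- the elements `[o, t]`
  have hdl : ∀ l : F, ∃ d ∈ O, Act W c d 1 (s l - l) := by
    intro l
    obtain ⟨t, ht, htl⟩ := full l
    refine ⟨_, ?_, h.act_comm (hO ho) ht hs htl⟩
    have e1 : o * t * o⁻¹ * t⁻¹ = o * (t * o⁻¹ * t⁻¹) := by group
    rw [e1]
    exact mul_mem ho (hOT t ht _ (inv_mem ho))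
  obtain ⟨l, hl⟩ : ∃ l, s l ≠ l := by
    by_contra hcon
    push Not at hcon
    exact hs1 (RingEquiv.ext hcon)
  -- an element of the fixed field outside `{0, 1}`
  obtain ⟨r, hr, hr0, hr1⟩ : ∃ r : F, s r = r ∧ r ≠ 0 ∧ r ≠ 1 := by
    by_contra hcon
    push Not at hcon
    apply h4
    rw [← card_fix hs2 hs1]
    have : Nat.card {x : F // s x = x} = 2 := by
      rw [Nat.card_eq_two_iff]
      refine ⟨⟨0, map_zero s⟩, ⟨1, map_one s⟩, ?_, ?_⟩
      · intro e
        exact zero_ne_one (congrArg Subtype.val e)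
      · ext ⟨x, hx⟩
        simp only [Set.mem_insert_iff, Set.mem_singleton_iff, Set.mem_univ, iff_true, Subtype.mk.injEq]
        by_cases hx0 : x = 0
        · exact Or.inl hx0
        · exact Or.inr (hcon x hx hx0)
    rw [this]
  obtain ⟨d, hd, hda⟩ := hdl l
  obtain ⟨d', hd', hda'⟩ := hdl (r * l)
  have e1 : s (r * l) - r * l = r * (s l - l) := by rw [map_mul, hr]; ring
  rw [e1] at hda'
  have hne1 : s l - l ≠ 0 := sub_ne_zero.2 hl
  have h5 := huniq d hd _ hda hne1 d' hd' _ hda' (mul_ne_zero hr0 hne1)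
  have h6 : (r - 1) * (s l - l) = 0 := by rw [sub_mul, ← h5, one_mul, sub_self]
  rcases mul_eq_zero.1 h6 with h7 | h7
  · exact hr1 (sub_eq_zero.1 h7)
  · exact hne1 h7

theorem card_W [Finite F] : Nat.card W = Nat.card F * Nat.card F := by
  rw [← Nat.card_prod]
  refine Nat.card_congr (Equiv.ofBijective (fun w : W => c w) ⟨?_, ?_⟩)
  · intro v w e
    exact Subtype.ext (h.eq_of v.2 w.2 e)
  · intro p
    obtain ⟨w, hw, e⟩ := h.surj p
    exact ⟨⟨w, hw⟩, e⟩

/-- the fixed points of an element which induces an involution on `F` -/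
theorem card_cent [Finite G] [Finite F] [CharP F 2] {e : G} {s : RingAut F} {l : F} (hs : Act W c e s l)
    (hs1 : s ≠ 1) (hs2 : s * s = 1) : Nat.card ↥(W ⊓ centralizer ({e} : Set G)) ≤ Nat.card F := by
  classical
  rw [← card_fix hs2 hs1, ← Nat.card_prod]
  have hfix : ∀ w ∈ W ⊓ centralizer ({e} : Set G), s (c w).2 = (c w).2 ∧ s (c w).1 + l * (c w).2 = (c w).1 := by
    rintro w ⟨hw, hw'⟩
    have h1 := hs w hw
    have e1 : e * w * e⁻¹ = w := by
      have := mem_centralizer_singleton_iff.1 hw'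
      rw [← this]; group
    rw [e1] at h1
    have h2 : (c w).2 = s (c w).2 := congrArg Prod.snd h1
    have h3 : (c w).1 = s (c w).1 + l * s (c w).2 := congrArg Prod.fst h1
    refine ⟨h2.symm, ?_⟩
    rw [← h2] at h3
    exact h3.symm
  -- particular solutions
  set g : F → F := fun y => if hy : ∃ x, s x + l * y = x then Classical.choose hy else 0 with hg
  have hg' : ∀ w ∈ W ⊓ centralizer ({e} : Set G), s (g (c w).2) + l * (c w).2 = g (c w).2 := by
    intro w hw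
    have hy : ∃ x, s x + l * (c w).2 = x := ⟨_, (hfix w hw).2⟩
    have : g (c w).2 = Classical.choose hy := by
      rw [hg]
      exact dif_pos hy
    rw [this]
    exact Classical.choose_spec hy
  refine Nat.card_le_card_of_injective (fun w : ↥(W ⊓ centralizer ({e} : Set G)) =>
    ((⟨(c w).2, (hfix w w.2).1⟩, ⟨(c w).1 - g (c w).2, ?_⟩) : {x : F // s x = x} × {x : F // s x = x})) ?_
  · rw [map_sub]
    have h1 := (hfix w w.2).2
    have h2 := hg' w w.2
    have h3 : s (c w).1 = (c w).1 - l * (c w).2 := by rw [eq_sub_iff_add_eq]; exact h1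
    have h4 : s (g (c w).2) = g (c w).2 - l * (c w).2 := by rw [eq_sub_iff_add_eq]; exact h2
    rw [h3, h4]
    ring
  · intro v w hvw
    have h1 : (c v).2 = (c w).2 := congrArg (fun p => (p.1 : F)) hvw
    have h2 : (c v).1 - g (c v).2 = (c w).1 - g (c w).2 := congrArg (fun p => (p.2 : F)) hvw
    apply Subtype.ext
    apply h.eq_of v.2.1 w.2.1
    ext
    · rw [h1] at h2
      exact sub_left_injective h2
    · exact h1

/-- **`Cost`**, written out. -/
theorem cost [Finite G] [Finite F] [CharP F 2] (hmov : ∃ t ∈ T, ∃ z ∈ Z, t * z ≠ z * t) (h4 : Nat.card F ≠ 4) :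
    ∀ E ≤ T, (∀ a ∈ E, ∀ u ∈ W, a * (a * u * a⁻¹) * a⁻¹ = u) →
    (∀ a ∈ E, ∀ b ∈ E, ∀ u ∈ W, a * (b * u * b⁻¹) * a⁻¹ = b * (a * u * a⁻¹) * b⁻¹) →
    (∀ a ∈ E, ∀ b ∈ E, ∀ u ∈ W, b * (u * (a * u * a⁻¹)) = u * (a * u * a⁻¹) * b) →
    (∀ w ∈ closure {y | ∃ x ∈ W, ∃ a ∈ E, y = x * (a * x * a⁻¹)}, ¬ (w ∈ Z ∧ ∃ t ∈ T, t * w ≠ w * t)) →
    E ≤ centralizer (W : Set G) ∨
      2 * ((centralizer (W : Set G)).relIndex E) ^ 3 ≤ (centralizer (E : Set G)).relIndex W := by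
  classical
  intro E hE hsq _ _ hbad
  -- elements which centralise `Z`
  have stepA : ∀ e ∈ E, ∀ l : F, Act W c e 1 l → l = 0 := by
    intro e he l hl
    by_contra hl0
    obtain ⟨t, ht, z, hz, hne⟩ := hmov
    obtain ⟨hzW, hz2⟩ := (h.memZ z).1 hz
    obtain ⟨x, hx, ex⟩ := h.surj (0, (c z).1 / l)
    refine hbad z (subset_closure ⟨x, hx, e, he, ?_⟩) ⟨hz, t, ht, hne⟩
    have h1 := hl x hx
    apply h.eq_of hzW (mul_mem hx (h.TW e (hE he) x hx))
    rw [h.mul _ hx _ (h.TW e (hE he) x hx), h1, ex]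
    ext
    · show (c z).1 = 0 + (0 + l * ((c z).1 / l))
      rw [zero_add, zero_add, mul_div_cancel₀ _ hl0]
    · show (c z).2 = (c z).1 / l + (c z).1 / l
      rw [hz2]
      exact (CharTwo.add_self_eq_zero _).symm
  have stepB : ∀ e ∈ E, ∀ (s : RingAut F) (l : F), Act W c e s l → s * s = 1 := by
    intro e he s l hs
    ext y
    obtain ⟨w, hw, ew⟩ := h.surj (0, y)
    have h1 := hs _ (h.TW e (hE he) w hw)
    rw [hs w hw, hsq e he w hw, ew] at h1
    exact (congrArg Prod.snd h1).symm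
  by_cases hall : ∀ e ∈ E, ∃ l, Act W c e 1 l
  · left
    intro e he
    obtain ⟨l, hl⟩ := hall e he
    exact (h.cent_iff (hE he) hl).2 ⟨rfl, stepA e he l hl⟩
  · right
    push Not at hall
    obtain ⟨e₀, he₀, hne₀⟩ := hall
    obtain ⟨s₀, l₀, hs₀⟩ := h.act e₀ (hE he₀)
    have hs1 : s₀ ≠ 1 := fun e => hne₀ l₀ (e ▸ hs₀)
    have hs2 := stepB e₀ he₀ s₀ l₀ hs₀
    have hnc : ∀ {e : G}, e ∈ E → ∀ {s : RingAut F} {l : F}, Act W c e s l → (e ∈ centralizer (W : Set G) ↔ s = 1) := by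
      intro e he s l hs
      rw [h.cent_iff (hE he) hs]
      refine ⟨fun h1 => h1.1, fun h1 => ⟨h1, ?_⟩⟩
      subst h1
      exact stepA e he l hs
    have hindex : (centralizer (W : Set G)).relIndex E = 2 := by
      rw [relIndex_eq_two_iff]
      refine ⟨e₀, he₀, fun b hb => ?_⟩
      obtain ⟨s, l, hs⟩ := h.act b (hE hb)
      have hm := h.act_mul (hE he₀) hs hs₀
      by_cases hb1 : s = 1
      · refine Or.inr ⟨(hnc hb hs).2 hb1, fun h1 => ?_⟩
        have h2 := (hnc (mul_mem hb he₀) hm).1 h1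
        rw [hb1, one_mul] at h2
        exact hs1 h2
      · refine Or.inl ⟨?_, fun h1 => hb1 ((hnc hb hs).1 h1)⟩
        rw [hnc (mul_mem hb he₀) hm, unique_invol (stepB b hb s l hs) hs2 hb1 hs1, hs2]
    rw [hindex]
    -- `|F| ≥ 16`
    have hF : 16 ≤ Nat.card F := by
      have h1 := card_fix hs2 hs1
      obtain ⟨n, hn⟩ : ∃ n : ℕ, Nat.card F = 2 ^ n := by
        have : Fintype F := Fintype.ofFinite F
        obtain ⟨n, -, hn⟩ := FiniteField.card F 2
        exact ⟨n, by rw [Nat.card_eq_fintype_card, hn]⟩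
      obtain ⟨m, -, hm⟩ := (Nat.dvd_prime_pow Nat.prime_two).1 (Dvd.intro _ (h1.trans hn))
      rw [hm] at h1
      have h5 : 1 < Nat.card F := Finite.one_lt_card
      rcases m with _ | _ | m
      · rw [← h1] at h5
        norm_num at h5
      · exact absurd h1.symm (by norm_num; exact h4)
      · rw [← h1]
        have h6 : 4 ≤ 2 ^ (m + 1 + 1) := by
          rw [pow_succ, pow_succ]
          have := Nat.one_le_two_pow (n := m)
          omega
        exact Nat.mul_le_mul h6 h6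
    have h1 := h.card_cent hs₀ hs1 hs2
    have h2 : Nat.card ↥(W ⊓ centralizer (E : Set G)) ≤ Nat.card F := by
      refine le_trans (Subgroup.card_le_of_le (inf_le_inf_left _ (centralizer_le ?_))) h1
      exact Set.singleton_subset_iff.2 he₀
    have h3 : Nat.card ↥(W ⊓ centralizer (E : Set G)) * (centralizer (E : Set G)).relIndex W = Nat.card W := by
      have h4 := relIndex_mul_relIndex ⊥ (centralizer (E : Set G) ⊓ W) W bot_le inf_le_right
      rw [relIndex_bot_left, relIndex_bot_left, inf_relIndex_right] at h4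
      rw [inf_comm]
      exact h4
    rw [h.card_W] at h3
    have h5 : Nat.card F ≤ (centralizer (E : Set G)).relIndex W := by
      have hp : 0 < Nat.card F := Nat.card_pos
      have h6 : Nat.card F * Nat.card F ≤ Nat.card F * (centralizer (E : Set G)).relIndex W := by
        rw [← h3]
        exact Nat.mul_le_mul_right _ h2
      exact Nat.le_of_mul_le_mul_left h6 hp
    calc 2 * 2 ^ 3 = 16 := by norm_num
      _ ≤ Nat.card F := hF
      _ ≤ _ := h5

end AB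

end Cfsg.Agent.Omega.OM.SWQ
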