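import Cfsg.Agent.Omega.OM.SWQ.CaseFour
import Cfsg.Agent.Omega.OM.FourF.Zero

/-!
# `q = 4`, stage `n ≥ 0`: a pair whose `T` fixes all `Z i` is of type `K` at every moved index (lemma Z4, helper880)

* `DtL.zero_four` : for a pair `(T, Y)` for any `X ≥ C_G(Z_J), N_G(B)`, `T ≤ S` fixing all `Z i`: if `Y` does not
  normalise `Z i`, then `Y` is of type `K` at `i` (`TyK`): `Y ≤ N(W i)`, and some `s ∈ O₂(Y)` is semilinear on `W i` and
  centralises all other `Z j`;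
* `DtL.nor_four` : so if no element of `T` is of this kind, `Y ≤ N(Z i)` for all `i`.
-/

set_option autoImplicit false
set_option linter.unusedSectionVars false

namespace Cfsg.Agent.Omega.OM.SWQ.CaseFour

open Subgroup Cfsg Cfsg.Agent.ZN.ChoiceBase Cfsg.Agent.ZN.ChoiceSit
open Cfsg.Agent.ZN (jj zj bau zc zl o2)
open Cfsg.Agent.Lib.SL2Mat
open Cfsg.Agent.Omega.NatPair hiding cj
open Cfsg.Agent.Omega.FFThm (NatK NatKM ActsSL)
open Cfsg.Agent.Omega.FrameFF (cv)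
open Cfsg.Agent.Omega.NO3S (HypN)
open Cfsg.Agent.Omega.NO3S.OneLine (NatC)
open Cfsg.Agent.Omega.NO3S.Level (lev)
open Cfsg.Agent.Omega.OM.Lev.Nat
open Cfsg.Agent.Omega.OM.SwapL (Ln BL ZL lb BM Pair Phi exists_fam)
open Cfsg.Agent.Omega.OM.FourF (MD Thr OneF Lin Sem conjW dl dl_ap' dl_zero' dl_one' TyK)
open Cfsg.Agent.MinSimple.MinParabolic (IsMinPar)
open Cfsg.Agent.MinSimple.VModule (oddGen oddGen_le mem_oddGen oddGen_def)

universe u

variable {G : Type u} [Group G] [Finite G] {S : Sylow 2 G} {P : Subgroup G} {n : ℕ} {F : Type} [Field F] [Finite F]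
  [CharP F 2] {k : ℕ} {M : NatC F (S : Subgroup G) P (zl (S : Subgroup G) P) (cv (S : Subgroup G) P) k}
  {L Z A : Fin k → Subgroup G} (D : DtL S P n M L Z A)

include D

variable {z₀ f₀ : Fin k → F} {X T Y : Subgroup G}
  (m : MD M.nat (BL (S : Subgroup G) n) (ZL (S : Subgroup G) n) (Wn M) Z z₀ f₀)
  (hp : Pair S P n X T Y) (hTS : T ≤ (S : Subgroup G)) (hPhi : ∀ i, ∀ t ∈ T, cj t (Z i) = Z i) (hq : Nat.card F = 4)

include m hp hTS hPhi hq

/-- the structure `Thr` with `M = ⊤` -/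
theorem thr_top {u : Fin k → G} (hu : ∀ i, u i ∈ Z i)
    (hue : ∀ i, MD.co M.nat z₀ f₀ i (u i) = (1, 0)) (huY : ∀ i, ∀ y ∈ Y, y * u i = u i * y) :
    Thr Y T ⊤ (Wn M) Z u (MD.co M.nat z₀ f₀) where
  card := hq
  syl := hp.syl
  TM := le_top
  co := fun i => m.toCo (hu i) (hue i)
  TN := fun i t ht => m.nW (hTS ht) (hPhi i t ht)
  act := fun i t ht => m.act4 hq (hTS ht) (hPhi i t ht)
  full := fun i l => by
    obtain ⟨b, hb, h1⟩ := m.full i l
    exact ⟨b, hp.BT hb, h1⟩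
  sl := sl D m (fun _ => le_top) le_top
  NM := fun _ _ => mem_top _
  Xu := huY
  fix := fun i hi x hx z hz => by
    have h2 : z ∈ centralizer (Y : Set G) :=
      hp.fix ⟨D.ln.fr.Z_le i hz, mem_centralizer_iff.2 fun o ho => hi o ho z hz⟩
    exact mem_centralizer_iff.1 h2 x hx

omit hq in
/-- root elements of one component -/
theorem full_one (i : Fin k) (l : F) : ∃ t ∈ T, FourF.Act (Wn M i) (MD.co M.nat z₀ f₀ i) t (fun p => (p.1 + l * p.2, p.2)) ∧
    ∀ j, j ≠ i → ∀ w ∈ Wn M j, t * w = w * t := by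
  classical
  obtain ⟨b, hb, hc⟩ := m.cn.full fun j => if j = i then l else 0
  have hbT := hp.BT hb
  refine ⟨b, hbT, fun w hw => ?_, fun j hj w hw => ?_⟩
  · obtain ⟨h1, h2⟩ := hc w (m.WV hw) i
    rw [if_pos rfl] at h1
    ext
    · exact h1
    · exact h2
  · obtain ⟨h1, h2⟩ := hc w (m.WV hw) j
    rw [if_neg hj, zero_mul, add_zero] at h1
    refine mul_inv_eq_iff_eq_mul.1 (m.co_inj (conjW (m.nW (hTS hbT) (hPhi j b hbT)) hw) hw ?_)
    ext
    · exact h1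
    · exact h2

/-- **Z4 at stage `n`** -/
theorem _root_.Cfsg.Agent.Omega.OM.SWQ.DtL.zero_four (hD : centralizer (ZL (S : Subgroup G) n : Set G) ≤ X)
    (hN : normalizer (BL (S : Subgroup G) n : Set G) ≤ X) {i : Fin k} (hi : ¬ Y ≤ normalizer (Z i : Set G)) :
    ∃ s, TyK Y (Wn M) Z (MD.co M.nat z₀ f₀) i s := by
  choose u hu hue huY using exists_u D m hp hTS hPhi hq
  have ht := thr_top D m hp hTS hPhi hq hu hue huY
  refine ht.zero (fun j => ?_) (full_one D m hp hTS hPhi) hi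
  obtain ⟨𝓐, h1⟩ := oneF D m hp hTS hPhi hq hD hN (hu j) (hue j) (huY j)
  have hfix : o2 Y ≤ centralizer (Z j : Set G) → Y ≤ centralizer (Z j : Set G) := by
    intro hj x hx
    refine mem_centralizer_iff.2 fun z hz => ?_
    have h3 : z ∈ centralizer (Y : Set G) :=
      hp.fix ⟨D.ln.fr.Z_le j hz, mem_centralizer_iff.2 fun o ho => (mem_centralizer_iff.1 (hj ho) z hz).symm⟩
    exact (mem_centralizer_iff.1 h3 x hx).symm
  rcases h1.main hfix with h2 | h2
  · right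
    intro x hx z hz
    exact (mem_centralizer_iff.1 (h2 hx) z hz).symm
  · exact Or.inl h2

/-- **outside (4F)** at stage `n` -/
theorem _root_.Cfsg.Agent.Omega.OM.SWQ.DtL.nor_four (hD : centralizer (ZL (S : Subgroup G) n : Set G) ≤ X)
    (hN : normalizer (BL (S : Subgroup G) n : Set G) ≤ X)
    (hno : ∀ i, ∀ s ∈ T, (∀ j, j ≠ i → ∀ z ∈ Z j, s * z = z * s) → ∀ z ∈ Z i, s * z = z * s) (i : Fin k) :
    Y ≤ normalizer (Z i : Set G) := by
  by_contra hi
  obtain ⟨s, hs⟩ := D.zero_four m hp hTS hPhi hq hD hN hi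
  obtain ⟨l, -, hl⟩ := hs.sem
  obtain ⟨w, hw⟩ := FourF.exists_w hq
  obtain ⟨v, hv, hve⟩ := m.co_surj i (w, 0)
  have hvZ : v ∈ Z i := m.co_Z.2 ⟨hv, by rw [hve]⟩
  have h1 := hno i s (o2_le_syl hp.syl hs.sO) hs.cent v hvZ
  have h2 := hl v hv
  have h3 : s * v * s⁻¹ = v := mul_inv_eq_iff_eq_mul.2 h1
  rw [h3, hve] at h2
  have h4 := congrArg Prod.fst h2
  simp only [mul_zero, add_zero] at h4
  rw [← pow_two, hw] at h4
  exact one_ne_zero (left_eq_add.1 h4)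

end Cfsg.Agent.Omega.OM.SWQ.CaseFour
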